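import Mathlib
import Groth.Prelude.Def_W4c1hilbpnTgt

/-! Basic API for monomial ideals and the multigraded pieces of `T(I) = Hom_S(I, S/I)`. -/

open scoped Classical
set_option linter.unusedSectionVars false
set_option autoImplicit false
noncomputable section

namespace Groth.Agent.Lib.Helper6.Hilbpn
open MvPolynomial W4c1hilbpn

variable {σ : Type*} {k : Type*} [Field k]

section basics
variable {I : Ideal (MvPolynomial σ k)}

lemma mem_exps {β : σ →₀ ℕ} : β ∈ exps I ↔ monomial β (1:k) ∈ I := Iff.rfl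

lemma exps_add {β : σ →₀ ℕ} (h : β ∈ exps I) (γ : σ →₀ ℕ) : β + γ ∈ exps I := by
  show monomial (β+γ) (1:k) ∈ I
  have : monomial (β+γ) (1:k) = monomial β 1 * monomial γ 1 := by
    rw [monomial_mul, one_mul]
  rw [this]; exact I.mul_mem_right _ h

lemma exps_of_le {β β' : σ →₀ ℕ} (h : β ∈ exps I) (hle : β ≤ β') : β' ∈ exps I := by
  have : β' = β + (β' - β) := (add_tsub_cancel_of_le hle).symm
  rw [this]; exact exps_add h _

lemma IsMonomial.mem_iff (hI : IsMonomial I) (p : MvPolynomial σ k) :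
    p ∈ I ↔ ∀ β ∈ p.support, β ∈ exps I := by
  refine ⟨fun hp β hβ => hI p hp β hβ, fun h => ?_⟩
  rw [p.as_sum]
  refine I.sum_mem fun β hβ => ?_
  have : monomial β (coeff β p) = C (coeff β p) * monomial β (1:k) := by
    rw [C_mul_monomial, mul_one]
  rw [this]; exact I.mul_mem_left _ (h β hβ)

/-- The coefficient of a standard monomial `x^v` (`v ∉ exps I`) as a functional on `S/I`. -/
def coeffQ (hI : IsMonomial I) (v : σ →₀ ℕ) (hv : v ∉ exps I) :
    (MvPolynomial σ k ⧸ I) →ₗ[k] k :=
  ((I.restrictScalars k).liftQ (lcoeff k v) (by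
      intro p hp
      simp only [LinearMap.mem_ker, lcoeff_apply]
      by_contra hne
      exact hv (hI p hp v (by rwa [mem_support_iff])))).comp
    (Submodule.Quotient.restrictScalarsEquiv k I).symm.toLinearMap

lemma coeffQ_mk (hI : IsMonomial I) (v : σ →₀ ℕ) (hv : v ∉ exps I) (p : MvPolynomial σ k) :
    coeffQ hI v hv (Ideal.Quotient.mk I p) = coeff v p := by
  unfold coeffQ
  simp only [LinearMap.coe_comp, LinearEquiv.coe_coe, Function.comp_apply]
  rw [← Ideal.Quotient.mk_eq_mk, Submodule.Quotient.restrictScalarsEquiv_symm_mk]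
  rfl

lemma mk_monomial_eq_zero_iff {v : σ →₀ ℕ} :
    Ideal.Quotient.mk I (monomial v (1:k)) = 0 ↔ v ∈ exps I := by
  rw [Ideal.Quotient.eq_zero_iff_mem]; rfl

end basics

end Groth.Agent.Lib.Helper6.Hilbpn
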