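import Mathlib
import Groth.Prelude.Def_W4c1hilbpnTgt
import Groth.Agent.Lib.Helper6.Hilbpn.Basic

/-! Constructing and comparing elements of `T(I) = Hom_S(I, S/I)` for monomial ideals. -/

open scoped Classical
set_option linter.unusedSectionVars false
set_option autoImplicit false
noncomputable section

namespace Groth.Agent.Lib.Helper6.Hilbpn
open MvPolynomial W4c1hilbpn

variable {σ : Type*} {k : Type*} [Field k]

section tgt
variable {I : Ideal (MvPolynomial σ k)}

/-- The monomial `x^β` as an element of `I`. -/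
def monI (I : Ideal (MvPolynomial σ k)) (β : σ →₀ ℕ) (h : β ∈ exps I) : I := ⟨monomial β 1, h⟩

@[simp] lemma monI_coe (β : σ →₀ ℕ) (h : β ∈ exps I) : (monI I β h : MvPolynomial σ k) = monomial β 1 := rfl

lemma span_monI_eq_top (hI : IsMonomial I) :
    Submodule.span k (Set.range fun β : exps I => monI I β.1 β.2) = ⊤ := by
  refine eq_top_iff.2 fun x _ => ?_
  obtain ⟨p, hp⟩ := x
  have key : (⟨p, hp⟩ : I) = ∑ β ∈ p.support.attach, coeff β.1 p • monI I β.1 (hI p hp β.1 β.2) := by
    apply Subtype.ext
    rw [Submodule.coe_sum]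
    simp only [Submodule.coe_smul_of_tower, monI_coe, smul_monomial, smul_eq_mul, mul_one]
    rw [Finset.sum_attach p.support (fun β => monomial β (coeff β p))]
    exact (support_sum_monomial_coeff p).symm
  rw [key]
  refine Submodule.sum_mem _ fun β _ => Submodule.smul_mem _ _ (Submodule.subset_span ?_)
  exact ⟨⟨β.1, hI p hp β.1 β.2⟩, rfl⟩

lemma klin_ext (hI : IsMonomial I) {M : Type*} [AddCommGroup M] [Module k M] (f g : I →ₗ[k] M)
    (h : ∀ β (hβ : β ∈ exps I), f (monI I β hβ) = g (monI I β hβ)) : f = g :=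
  LinearMap.ext_on_range (span_monI_eq_top hI) fun β => h β.1 β.2

lemma tgt_ext (hI : IsMonomial I) (φ ψ : Tgt I)
    (h : ∀ β (hβ : β ∈ exps I), φ (monI I β hβ) = ψ (monI I β hβ)) : φ = ψ := by
  have := klin_ext hI (φ.restrictScalars k) (ψ.restrictScalars k) h
  ext x
  exact DFunLike.congr_fun this x

/-- Evaluation at an element of `I`, as a `k`-linear functional on `T(I)`. -/
def evalAt (x : I) : Tgt I →ₗ[k] (MvPolynomial σ k ⧸ I) where
  toFun φ := φ x
  map_add' _ _ := rfl
  map_smul' _ _ := rfl

@[simp] lemma evalAt_apply (x : I) (φ : Tgt I) : evalAt (k := k) x φ = φ x := rfl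

lemma X_mul_monomial' (i : σ) (β : σ →₀ ℕ) :
    (X i : MvPolynomial σ k) * monomial β 1 = monomial (β + Finsupp.single i 1) 1 := by
  rw [X, monomial_mul, one_mul, add_comm]

lemma tgt_monI_add_single (φ : Tgt I) (β : σ →₀ ℕ) (hβ : β ∈ exps I) (i : σ) :
    φ (monI I (β + Finsupp.single i 1) (exps_add hβ _)) = (X i : MvPolynomial σ k) • φ (monI I β hβ) := by
  rw [← φ.map_smul]
  congr 1
  apply Subtype.ext
  show monomial (β + Finsupp.single i 1) (1:k) = X i * monomial β 1
  rw [X_mul_monomial']

/-- Build an element of `T(I)` from a `k`-linear map on `S` that commutes with multiplication by the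
variables on monomials of `I`. -/
def mkTgt (hI : IsMonomial I) (L : MvPolynomial σ k →ₗ[k] (MvPolynomial σ k ⧸ I))
    (hL : ∀ β ∈ exps I, ∀ i, L (monomial (β + Finsupp.single i 1) 1) =
      (X i : MvPolynomial σ k) • L (monomial β 1)) : Tgt I where
  toFun p := L p.1
  map_add' p q := by simp
  map_smul' s p := by
    have hX : ∀ p ∈ I, ∀ i, L (X i * p) = (X i : MvPolynomial σ k) • L p := by
      intro p hp i
      rw [p.as_sum, Finset.mul_sum, map_sum, map_sum, Finset.smul_sum]
      refine Finset.sum_congr rfl fun β hβ => ?_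
      have h1 : monomial β (coeff β p) = coeff β p • monomial β (1:k) := by
        rw [smul_monomial, smul_eq_mul, mul_one]
      rw [h1, mul_smul_comm, map_smul, map_smul, X_mul_monomial', hL β (hI p hp β hβ) i,
        smul_comm]
    have hS : ∀ s : MvPolynomial σ k, ∀ p ∈ I, L (s * p) = s • L p := by
      intro s
      induction s using MvPolynomial.induction_on with
      | C a =>
        intro p _
        rw [← smul_eq_C_mul, map_smul, ← algebraMap_eq, algebraMap_smul]
      | add s t hs ht =>
        intro p hp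
        rw [add_mul, map_add, hs p hp, ht p hp, add_smul]
      | mul_X s i hs =>
        intro p hp
        rw [mul_assoc, hs _ (I.mul_mem_left _ hp), hX p hp, mul_smul]
    simpa using hS s p.1 p.2

@[simp] lemma mkTgt_apply (hI : IsMonomial I) (L : MvPolynomial σ k →ₗ[k] (MvPolynomial σ k ⧸ I))
    (hL) (p : I) : mkTgt hI L hL p = L p.1 := rfl

end tgt

end Groth.Agent.Lib.Helper6.Hilbpn
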