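import Mathlib
import Groth.Prelude.Def_W4c1hilbpnTgt
import Groth.Agent.Lib.Helper6.Hilbpn.Tgt

/-! The region `(Ĩ + α) ∖ Ĩ` and the identification of `T(I)_α` with locally constant functions on it
vanishing at points with a negative coordinate. -/

open scoped Classical
set_option linter.unusedSectionVars false
set_option autoImplicit false
noncomputable section

namespace Groth.Agent.Lib.Helper6.Hilbpn
open MvPolynomial W4c1hilbpn

variable {σ : Type*} {k : Type*} [Field k] [Fintype σ]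

/-- all entries of `β + α` are nonnegative -/
def nn (α : σ → ℤ) (β : σ →₀ ℕ) : Prop := ∀ i, 0 ≤ (β i : ℤ) + α i

/-- the integer vector `β + α` -/
def vec (α : σ → ℤ) (β : σ →₀ ℕ) : σ → ℤ := fun i => (β i : ℤ) + α i

/-- truncation of an integer vector to a natural exponent vector -/
def toNatVec (γ : σ → ℤ) : σ →₀ ℕ := Finsupp.equivFunOnFinite.symm fun i => (γ i).toNat

/-- the source exponent `v - α` -/
def src (α : σ → ℤ) (v : σ → ℤ) : σ →₀ ℕ := Finsupp.equivFunOnFinite.symm fun i => (v i - α i).toNat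

@[simp] lemma toNatVec_apply (γ : σ → ℤ) (i : σ) : toNatVec γ i = (γ i).toNat := rfl
@[simp] lemma src_apply (α v : σ → ℤ) (i : σ) : src α v i = (v i - α i).toNat := rfl
@[simp] lemma vec_apply (α : σ → ℤ) (β : σ →₀ ℕ) (i : σ) : vec α β i = (β i : ℤ) + α i := rfl

lemma shift_eq (β : σ →₀ ℕ) (α : σ → ℤ) : shift β α = toNatVec (vec α β) := rfl

@[simp] lemma shift_apply (β : σ →₀ ℕ) (α : σ → ℤ) (i : σ) :
    shift β α i = ((β i : ℤ) + α i).toNat := rfl

@[simp] lemma src_vec (α : σ → ℤ) (β : σ →₀ ℕ) : src α (vec α β) = β := by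
  ext i; simp

lemma nn_iff_vec (α : σ → ℤ) (β : σ →₀ ℕ) : nn α β ↔ ∀ i, 0 ≤ vec α β i := Iff.rfl

lemma vec_add_single [DecidableEq σ] (α : σ → ℤ) (β : σ →₀ ℕ) (i : σ) :
    vec α (β + Finsupp.single i 1) = vec α β + Pi.single i 1 := by
  funext j
  by_cases h : j = i
  · subst h; simp [add_right_comm]
  · simp [Finsupp.single_apply, Pi.single_apply, h, Ne.symm h]

lemma nn_add_single {α : σ → ℤ} {β : σ →₀ ℕ} (h : nn α β) (i : σ) :
    nn α (β + Finsupp.single i 1) := by
  intro j
  have := h j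
  rw [← vec_apply, vec_add_single]
  simp only [Pi.add_apply, vec_apply]
  have : (0:ℤ) ≤ (Pi.single i (1:ℤ) : σ → ℤ) j := by
    by_cases hj : j = i
    · subst hj; simp
    · simp [Pi.single_apply, hj]
  linarith

lemma shift_add_single {α : σ → ℤ} {β : σ →₀ ℕ} {i : σ} (h : 0 ≤ (β i : ℤ) + α i) :
    shift (β + Finsupp.single i 1) α = shift β α + Finsupp.single i 1 := by
  ext j
  by_cases hj : j = i
  · subst hj
    simp only [shift_apply, Finsupp.coe_add, Pi.add_apply, Finsupp.single_eq_same, Nat.cast_add,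
      Nat.cast_one]
    omega
  · simp [Finsupp.single_apply, hj, Ne.symm hj]

section region
variable {I : Ideal (MvPolynomial σ k)} {α : σ → ℤ}

lemma mem_region {γ : σ → ℤ} : γ ∈ region I α ↔
    (∃ β ∈ exps I, γ = vec α β) ∧ ¬ ((∀ i, 0 ≤ γ i) ∧ toNatVec γ ∈ exps I) := Iff.rfl

lemma vec_mem_region_iff {β : σ →₀ ℕ} (hβ : β ∈ exps I) :
    vec α β ∈ region I α ↔ ¬ (nn α β ∧ shift β α ∈ exps I) := by
  rw [mem_region]
  constructor
  · intro h; exact h.2
  · intro h; exact ⟨⟨β, hβ, rfl⟩, h⟩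

lemma src_mem_of_mem_region {γ : σ → ℤ} (h : γ ∈ region I α) : src α γ ∈ exps I := by
  obtain ⟨⟨β, hβ, hγ⟩, _⟩ := h
  have hγ' : γ = vec α β := hγ
  rw [hγ', src_vec]; exact hβ

lemma vec_src_of_mem_region {γ : σ → ℤ} (h : γ ∈ region I α) : vec α (src α γ) = γ := by
  obtain ⟨⟨β, hβ, hγ⟩, _⟩ := h
  have hγ' : γ = vec α β := hγ
  rw [hγ', src_vec]

lemma not_mem_exps_of_mem_region {γ : σ → ℤ} (h : γ ∈ region I α) (hγ : ∀ i, 0 ≤ γ i) :
    toNatVec γ ∉ exps I := fun h' => h.2 ⟨hγ, h'⟩

end region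

/-- Adjacency in the unit-step graph. -/
lemma stepGraph_adj_iff [DecidableEq σ] (a b : σ → ℤ) :
    (stepGraph σ).Adj a b ↔ ∃ i, b = a + Pi.single i 1 ∨ a = b + Pi.single i 1 := by
  unfold stepGraph
  rw [SimpleGraph.fromRel_adj]
  have hsymm : (∑ i, |b i - a i|) = ∑ i, |a i - b i| :=
    Finset.sum_congr rfl fun i _ => abs_sub_comm _ _
  rw [hsymm, or_self]
  constructor
  · rintro ⟨hne, hsum⟩
    obtain ⟨i, hi⟩ := Function.ne_iff.1 hne
    have h1 : 1 ≤ |a i - b i| := by
      have : a i - b i ≠ 0 := sub_ne_zero.2 hi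
      exact Int.one_le_abs this
    have h2 := Finset.add_sum_erase Finset.univ (fun j => |a j - b j|) (Finset.mem_univ i)
    have h3 : 0 ≤ ∑ j ∈ Finset.univ.erase i, |a j - b j| :=
      Finset.sum_nonneg fun j _ => abs_nonneg _
    have h4 : |a i - b i| = 1 := by linarith
    have h5 : ∑ j ∈ Finset.univ.erase i, |a j - b j| = 0 := by linarith
    have h6 : ∀ j, j ≠ i → a j = b j := by
      intro j hj
      have := (Finset.sum_eq_zero_iff_of_nonneg (fun j _ => abs_nonneg _)).1 h5 j
        (Finset.mem_erase.2 ⟨hj, Finset.mem_univ j⟩)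
      exact sub_eq_zero.1 (abs_eq_zero.1 this)
    refine ⟨i, ?_⟩
    rcases (abs_eq (by norm_num : (0:ℤ) ≤ 1)).1 h4 with h | h
    · right
      funext j
      by_cases hj : j = i
      · subst hj; simp; linarith
      · simp [Pi.single_apply, hj, h6 j hj]
    · left
      funext j
      by_cases hj : j = i
      · subst hj; simp; linarith
      · simp [Pi.single_apply, hj, h6 j hj]
  · rintro ⟨i, h | h⟩
    · subst h
      refine ⟨fun h => ?_, ?_⟩
      · have := congrFun h i; simp at this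
      · rw [Finset.sum_eq_single i]
        · simp
        · intro j _ hj; simp [Pi.single_apply, hj]
        · intro h; exact absurd (Finset.mem_univ i) h
    · subst h
      refine ⟨fun h => ?_, ?_⟩
      · have := congrFun h i; simp at this
      · rw [Finset.sum_eq_single i]
        · simp
        · intro j _ hj; simp [Pi.single_apply, hj]
        · intro h; exact absurd (Finset.mem_univ i) h

section W
variable (I : Ideal (MvPolynomial σ k)) (α : σ → ℤ)

/-- The graph on the region. -/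
abbrev regGraph : SimpleGraph ↥(region I α) := (stepGraph σ).induce (region I α)

lemma regGraph_adj_iff [DecidableEq σ] (v w : ↥(region I α)) :
    (regGraph I α).Adj v w ↔ ∃ i, w.1 = v.1 + Pi.single i 1 ∨ v.1 = w.1 + Pi.single i 1 := by
  rw [SimpleGraph.comap_adj]
  exact stepGraph_adj_iff _ _

/-- Locally constant functions on the region vanishing at points with a negative coordinate. -/
def W : Submodule k (↥(region I α) → k) where
  carrier := {g | (∀ v w, (regGraph I α).Adj v w → g v = g w) ∧ ∀ v : ↥(region I α), (∃ i, v.1 i < 0) → g v = 0}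
  zero_mem' := ⟨fun _ _ _ => rfl, fun _ _ => rfl⟩
  add_mem' := by
    rintro f g ⟨hf1, hf2⟩ ⟨hg1, hg2⟩
    refine ⟨fun v w h => ?_, fun v h => ?_⟩
    · simp [hf1 v w h, hg1 v w h]
    · simp [hf2 v h, hg2 v h]
  smul_mem' := by
    rintro c f ⟨hf1, hf2⟩
    refine ⟨fun v w h => ?_, fun v h => ?_⟩
    · simp [hf1 v w h]
    · simp [hf2 v h]

variable {I α}

lemma mem_W {g : ↥(region I α) → k} : g ∈ W I α ↔
    (∀ v w, (regGraph I α).Adj v w → g v = g w) ∧ ∀ v : ↥(region I α), (∃ i, v.1 i < 0) → g v = 0 :=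
  Iff.rfl

end W

end Groth.Agent.Lib.Helper6.Hilbpn
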