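import Mathlib
import Groth.Prelude.Def_W4c1hilbpnTgt
import Groth.Agent.Lib.Helper6.Hilbpn.Region

/-! `T(I)_α ≃ W I α`: graded pieces as locally constant functions on the region. -/

open scoped Classical
set_option linter.unusedSectionVars false
set_option autoImplicit false
noncomputable section

namespace Groth.Agent.Lib.Helper6.Hilbpn
open MvPolynomial W4c1hilbpn

variable {σ : Type*} {k : Type*} [Field k] [Fintype σ]

section stage1
variable {I : Ideal (MvPolynomial σ k)} (hI : IsMonomial I) (α : σ → ℤ)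

/-- total version of `coeffQ` -/
def coeffQ' (v : σ →₀ ℕ) : (MvPolynomial σ k ⧸ I) →ₗ[k] k :=
  if hv : v ∉ exps I then coeffQ hI v hv else 0

lemma coeffQ'_mk_monomial {v : σ →₀ ℕ} (hv : v ∉ exps I) (w : σ →₀ ℕ) :
    coeffQ' hI v (Ideal.Quotient.mk I (monomial w 1)) = if w = v then 1 else 0 := by
  unfold coeffQ'; rw [dif_pos hv, coeffQ_mk, coeff_monomial]

lemma coeffQ'_mk {v : σ →₀ ℕ} (hv : v ∉ exps I) (p : MvPolynomial σ k) :
    coeffQ' hI v (Ideal.Quotient.mk I p) = coeff v p := by
  unfold coeffQ'; rw [dif_pos hv, coeffQ_mk]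

/-- The comparison map from `T(I)` to functions on the region. -/
def Phi : Tgt I →ₗ[k] (↥(region I α) → k) :=
  LinearMap.pi fun v =>
    if (∀ i, 0 ≤ v.1 i) then
      (coeffQ' hI (toNatVec v.1)).comp (evalAt (monI I (src α v.1) (src_mem_of_mem_region v.2)))
    else 0

lemma Phi_apply_nonneg (φ : Tgt I) (v : ↥(region I α)) (hv : ∀ i, 0 ≤ v.1 i) :
    Phi hI α φ v = coeffQ' hI (toNatVec v.1) (φ (monI I (src α v.1) (src_mem_of_mem_region v.2))) := by
  unfold Phi
  rw [LinearMap.pi_apply, if_pos hv]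
  rfl

lemma Phi_apply_neg (φ : Tgt I) (v : ↥(region I α)) (hv : ¬ ∀ i, 0 ≤ v.1 i) :
    Phi hI α φ v = 0 := by
  unfold Phi
  rw [LinearMap.pi_apply, if_neg hv]
  rfl

variable {α}

lemma tPiece_apply_of_nn {φ : Tgt I} (hφ : φ ∈ tPiece I α) {β : σ →₀ ℕ} (hβ : β ∈ exps I)
    (h : nn α β) :
    ∃ c : k, φ (monI I β hβ) = c • Ideal.Quotient.mk I (monomial (shift β α) 1) := by
  obtain ⟨c, hc⟩ := Submodule.mem_span_singleton.1 ((hφ β hβ).1 h)
  exact ⟨c, hc.symm⟩

lemma tPiece_apply_of_not_nn {φ : Tgt I} (hφ : φ ∈ tPiece I α) {β : σ →₀ ℕ} (hβ : β ∈ exps I)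
    (h : ¬ nn α β) : φ (monI I β hβ) = 0 := by
  refine (hφ β hβ).2 ?_
  unfold nn at h
  push_neg at h
  exact h

lemma monI_congr {β β' : σ →₀ ℕ} (h : β = β') (hβ : β ∈ exps I) (hβ' : β' ∈ exps I) :
    monI I β hβ = monI I β' hβ' := by
  subst h; rfl

lemma toNatVec_add_single [DecidableEq σ] {v : σ → ℤ} {i : σ} (h : 0 ≤ v i) :
    toNatVec (v + Pi.single i 1) = toNatVec v + Finsupp.single i 1 := by
  ext j
  by_cases hj : j = i
  · subst hj
    simp only [toNatVec_apply, Pi.add_apply, Pi.single_eq_same, Finsupp.coe_add,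
      Finsupp.single_eq_same]
    omega
  · simp [Finsupp.single_apply, Pi.single_apply, hj, Ne.symm hj]

lemma smul_mk_monomial (i : σ) (w : σ →₀ ℕ) :
    (X i : MvPolynomial σ k) • (Ideal.Quotient.mk I (monomial w (1:k))) =
      Ideal.Quotient.mk I (monomial (w + Finsupp.single i 1) 1) := by
  rw [← X_mul_monomial']
  rfl

lemma Phi_key [DecidableEq σ] {φ : Tgt I} (hφ : φ ∈ tPiece I α) (v w : ↥(region I α)) (i : σ)
    (hvw : w.1 = v.1 + Pi.single i 1) : Phi hI α φ v = Phi hI α φ w := by
  set β := src α v.1 with hβdef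
  have hβ : β ∈ exps I := src_mem_of_mem_region v.2
  have hvec : vec α β = v.1 := vec_src_of_mem_region v.2
  have hsrcw : src α w.1 = β + Finsupp.single i 1 := by
    rw [hvw, ← hvec, ← vec_add_single, src_vec]
  have hφw : φ (monI I (src α w.1) (src_mem_of_mem_region w.2)) =
      (X i : MvPolynomial σ k) • φ (monI I β hβ) := by
    rw [monI_congr hsrcw _ (exps_add hβ _), tgt_monI_add_single]
  by_cases hv : ∀ j, 0 ≤ v.1 j
  · have hw : ∀ j, 0 ≤ w.1 j := by
      intro j
      rw [hvw]
      have := hv j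
      by_cases hj : j = i
      · subst hj; simp; linarith
      · simp [Pi.single_apply, hj, this]
    have hnn : nn α β := by
      intro j; rw [← vec_apply, hvec]; exact hv j
    obtain ⟨c, hc⟩ := tPiece_apply_of_nn hφ hβ hnn
    have hsh : shift β α = toNatVec v.1 := by rw [shift_eq, hvec]
    rw [Phi_apply_nonneg hI α φ v hv, Phi_apply_nonneg hI α φ w hw, hφw, hc, hsh, smul_comm,
      map_smul, map_smul, smul_mk_monomial,
      coeffQ'_mk_monomial hI (not_mem_exps_of_mem_region v.2 hv),
      coeffQ'_mk_monomial hI (not_mem_exps_of_mem_region w.2 hw), if_pos rfl, if_pos]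
    rw [hvw, toNatVec_add_single (hv i)]
  · have hnn : ¬ nn α β := by
      intro h; apply hv; intro j; rw [← hvec]; exact h j
    have h0 := tPiece_apply_of_not_nn hφ hβ hnn
    rw [Phi_apply_neg hI α φ v hv]
    by_cases hw : ∀ j, 0 ≤ w.1 j
    · rw [Phi_apply_nonneg hI α φ w hw, hφw, h0, smul_zero, map_zero]
    · rw [Phi_apply_neg hI α φ w hw]

lemma Phi_mem_W {φ : Tgt I} (hφ : φ ∈ tPiece I α) : Phi hI α φ ∈ W I α := by
  refine ⟨fun v w hadj => ?_, fun v hv => ?_⟩
  · obtain ⟨i, h | h⟩ := (regGraph_adj_iff I α v w).1 hadj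
    · exact Phi_key hI hφ v w i h
    · exact (Phi_key hI hφ w v i h).symm
  · apply Phi_apply_neg
    push_neg
    exact hv

lemma Phi_injOn {φ : Tgt I} (hφ : φ ∈ tPiece I α) (h0 : Phi hI α φ = 0) : φ = 0 := by
  apply tgt_ext hI
  intro β hβ
  rw [LinearMap.zero_apply]
  by_cases hnn : nn α β
  · obtain ⟨c, hc⟩ := tPiece_apply_of_nn hφ hβ hnn
    by_cases hs : shift β α ∈ exps I
    · rw [hc, mk_monomial_eq_zero_iff.2 hs, smul_zero]
    · have hmem : vec α β ∈ region I α := (vec_mem_region_iff hβ).2 (fun h => hs h.2)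
      have hv : ∀ i, 0 ≤ (⟨vec α β, hmem⟩ : ↥(region I α)).1 i := hnn
      have h1 := Phi_apply_nonneg hI α φ ⟨vec α β, hmem⟩ hv
      rw [h0] at h1
      have h2 : φ (monI I (src α (vec α β)) (src_mem_of_mem_region hmem)) = φ (monI I β hβ) := by
        rw [monI_congr (src_vec α β) _ hβ]
      simp only at h1
      rw [h2, hc, map_smul, ← shift_eq, coeffQ'_mk_monomial hI hs, if_pos rfl] at h1
      have hc0 : c = 0 := by simpa using h1.symm
      rw [hc, hc0, zero_smul]
  · exact tPiece_apply_of_not_nn hφ hβ hnn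

lemma Phi_surjOn {g : ↥(region I α) → k} (hg : g ∈ W I α) :
    ∃ φ ∈ tPiece I α, Phi hI α φ = g := by
  obtain ⟨hg1, hg2⟩ := hg
  set c : (σ →₀ ℕ) → k := fun β => if h : vec α β ∈ region I α then g ⟨_, h⟩ else 0 with hcdef
  set f : (σ →₀ ℕ) → (MvPolynomial σ k ⧸ I) := fun β =>
    if nn α β then c β • Ideal.Quotient.mk I (monomial (shift β α) 1) else 0 with hfdef
  set L : MvPolynomial σ k →ₗ[k] (MvPolynomial σ k ⧸ I) := (basisMonomials σ k).constr k f with hLdef
  have hLmon : ∀ β, L (monomial β 1) = f β := by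
    intro β
    have : monomial β (1:k) = basisMonomials σ k β := by rw [coe_basisMonomials]
    rw [this, hLdef, Module.Basis.constr_basis]
  have hL : ∀ β ∈ exps I, ∀ i, L (monomial (β + Finsupp.single i 1) 1) =
      (X i : MvPolynomial σ k) • L (monomial β 1) := by
    intro β hβ i
    rw [hLmon, hLmon]
    have hβi : β + Finsupp.single i 1 ∈ exps I := exps_add hβ _
    by_cases hnn : nn α β
    · have hnn' := nn_add_single hnn i
      simp only [hfdef, if_pos hnn, if_pos hnn']
      rw [shift_add_single (hnn i), smul_comm, smul_mk_monomial]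
      by_cases hs : shift β α + Finsupp.single i 1 ∈ exps I
      · rw [mk_monomial_eq_zero_iff.2 hs, smul_zero, smul_zero]
      · have hs0 : shift β α ∉ exps I := fun h => hs (exps_add h _)
        have hm1 : vec α β ∈ region I α := (vec_mem_region_iff hβ).2 (fun h => hs0 h.2)
        have hm2 : vec α (β + Finsupp.single i 1) ∈ region I α :=
          (vec_mem_region_iff hβi).2 (fun h => hs (by rw [← shift_add_single (hnn i)]; exact h.2))
        have hadj : (regGraph I α).Adj ⟨_, hm1⟩ ⟨_, hm2⟩ :=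
          (regGraph_adj_iff I α _ _).2 ⟨i, Or.inl (vec_add_single α β i)⟩
        have : c (β + Finsupp.single i 1) = c β := by
          simp only [hcdef, dif_pos hm1, dif_pos hm2]
          exact (hg1 _ _ hadj).symm
        rw [this]
    · simp only [hfdef, if_neg hnn, smul_zero]
      by_cases hnn' : nn α (β + Finsupp.single i 1)
      · rw [if_pos hnn']
        by_cases hs : shift (β + Finsupp.single i 1) α ∈ exps I
        · rw [mk_monomial_eq_zero_iff.2 hs, smul_zero]
        · have hm1 : vec α β ∈ region I α := (vec_mem_region_iff hβ).2 (fun h => hnn h.1)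
          have hm2 : vec α (β + Finsupp.single i 1) ∈ region I α :=
            (vec_mem_region_iff hβi).2 (fun h => hs h.2)
          have hadj : (regGraph I α).Adj ⟨_, hm1⟩ ⟨_, hm2⟩ :=
            (regGraph_adj_iff I α _ _).2 ⟨i, Or.inl (vec_add_single α β i)⟩
          have hneg : ∃ j, (⟨vec α β, hm1⟩ : ↥(region I α)).1 j < 0 := by
            unfold nn at hnn; push_neg at hnn; exact hnn
          have : c (β + Finsupp.single i 1) = 0 := by
            simp only [hcdef, dif_pos hm2]
            rw [← hg1 _ _ hadj]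
            exact hg2 _ hneg
          rw [this, zero_smul]
      · rw [if_neg hnn']
  refine ⟨mkTgt hI L hL, ?_, ?_⟩
  · intro β hβ
    have hval : (mkTgt hI L hL) ⟨monomial β 1, hβ⟩ = f β := by
      rw [mkTgt_apply]; exact hLmon β
    refine ⟨fun h => ?_, fun h => ?_⟩
    · rw [hval]
      simp only [hfdef]
      rw [if_pos (show nn α β from h)]
      exact Submodule.smul_mem _ _ (Submodule.mem_span_singleton_self _)
    · rw [hval]
      simp only [hfdef]
      rw [if_neg]
      intro hnn
      obtain ⟨i, hi⟩ := h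
      exact absurd (hnn i) (not_le.2 hi)
  · funext v
    by_cases hv : ∀ i, 0 ≤ v.1 i
    · rw [Phi_apply_nonneg hI α _ v hv, mkTgt_apply]
      have hnn : nn α (src α v.1) := by
        intro j; rw [← vec_apply, vec_src_of_mem_region v.2]; exact hv j
      have hsh : shift (src α v.1) α = toNatVec v.1 := by
        rw [shift_eq, vec_src_of_mem_region v.2]
      have : L (monomial (src α v.1) 1) = c (src α v.1) • Ideal.Quotient.mk I (monomial (toNatVec v.1) 1) := by
        rw [hLmon]; simp only [hfdef]; rw [if_pos hnn, hsh]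
      simp only [monI_coe]
      rw [this, map_smul, coeffQ'_mk_monomial hI (not_mem_exps_of_mem_region v.2 hv), if_pos rfl,
        smul_eq_mul, mul_one]
      have hm : vec α (src α v.1) ∈ region I α := by
        rw [vec_src_of_mem_region v.2]; exact v.2
      simp only [hcdef, dif_pos hm]
      exact congrArg g (Subtype.ext (vec_src_of_mem_region v.2))
    · rw [Phi_apply_neg hI α _ v hv]
      push_neg at hv
      exact (hg2 v hv).symm

variable (α)

/-- `T(I)_α` is isomorphic to the space of locally constant functions on the region vanishing at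
points with a negative coordinate. -/
def tPieceEquivW : tPiece I α ≃ₗ[k] W I α :=
  LinearEquiv.ofBijective
    ((Phi hI α).restrict (p := tPiece I α) (q := W I α) (fun _ hφ => Phi_mem_W hI hφ))
    ⟨by
      refine (injective_iff_map_eq_zero _).2 ?_
      intro φ h
      have h' : Phi hI α φ.1 = 0 := congrArg Subtype.val h
      exact Subtype.ext (Phi_injOn hI φ.2 h'),
     by
      intro g
      obtain ⟨φ, hφ, hφg⟩ := Phi_surjOn hI g.2
      exact ⟨⟨φ, hφ⟩, Subtype.ext hφg⟩⟩

lemma tPieceEquivW_apply (φ : tPiece I α) : (tPieceEquivW hI α φ).1 = Phi hI α φ.1 := rfl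

end stage1

end Groth.Agent.Lib.Helper6.Hilbpn
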