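import Mathlib
import Groth.Prelude.Def_W4c1hilbpnTgt
import Groth.Agent.Lib.Helper6.Hilbpn.Stage1

/-! `W I α ≃ (finite components → k)` and the bounded connected components theorem. -/

open scoped Classical
set_option linter.unusedSectionVars false
set_option autoImplicit false
noncomputable section

namespace Groth.Agent.Lib.Helper6.Hilbpn
open MvPolynomial W4c1hilbpn

variable {σ : Type*} {k : Type*} [Field k] [Fintype σ]

section stage2
variable {I : Ideal (MvPolynomial σ k)} (hI : IsMonomial I) (α : σ → ℤ)

lemma linearIndependent_std (hI : IsMonomial I) :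
    LinearIndependent k (fun v : {v : σ →₀ ℕ // v ∉ exps I} =>
      Ideal.Quotient.mk I (monomial v.1 (1:k))) := by
  rw [linearIndependent_iff']
  intro s g hsum w hw
  have := congrArg (coeffQ' hI w.1) hsum
  rw [map_sum, map_zero] at this
  simp only [map_smul, coeffQ'_mk_monomial hI w.2, smul_eq_mul] at this
  rw [Finset.sum_eq_single w] at this
  · simpa using this
  · intro b _ hb
    rw [if_neg (fun h => hb (Subtype.ext h)), mul_zero]
  · intro h; exact absurd hw h

lemma finite_std (hI : IsMonomial I) [Module.Finite k (MvPolynomial σ k ⧸ I)] :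
    Finite {v : σ →₀ ℕ // v ∉ exps I} :=
  (linearIndependent_std hI).finite_of_isNoetherian

lemma toNatVec_injOn {v w : σ → ℤ} (hv : ∀ i, 0 ≤ v i) (hw : ∀ i, 0 ≤ w i)
    (h : toNatVec v = toNatVec w) : v = w := by
  funext i
  have := DFunLike.congr_fun h i
  simp only [toNatVec_apply] at this
  have h1 := hv i
  have h2 := hw i
  omega

include hI in
lemma finite_nonneg_pts [Module.Finite k (MvPolynomial σ k ⧸ I)] :
    Finite {v : ↥(region I α) // ∀ i, 0 ≤ v.1 i} := by
  haveI := finite_std (k := k) hI
  let f : {v : ↥(region I α) // ∀ i, 0 ≤ v.1 i} → {v : σ →₀ ℕ // v ∉ exps I} :=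
    fun v => ⟨toNatVec v.1.1, not_mem_exps_of_mem_region v.1.2 v.2⟩
  refine Finite.of_injective f ?_
  intro v w h
  have h' : toNatVec v.1.1 = toNatVec w.1.1 := congrArg Subtype.val h
  exact Subtype.ext (Subtype.ext (toNatVec_injOn v.2 w.2 h'))

variable {α}

lemma W_const_of_reachable {g : ↥(region I α) → k} (hg : g ∈ W I α) {v w : ↥(region I α)}
    (h : (regGraph I α).Reachable v w) : g v = g w := by
  obtain ⟨p⟩ := h
  induction p with
  | nil => rfl
  | cons hadj _ ih => exact (hg.1 _ _ hadj).trans ih

lemma vec_add_single_nat (β : σ →₀ ℕ) (i : σ) (t : ℕ) :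
    vec α (β + Finsupp.single i t) = vec α β + (t:ℤ) • Pi.single i 1 := by
  funext j
  by_cases h : j = i
  · subst h; simp [add_right_comm]
  · simp [Finsupp.single_apply, Pi.single_apply, h, Ne.symm h]

/-- The ray from a point with a negative `j`-coordinate in direction `i ≠ j`. -/
def ray (v : ↥(region I α)) {i j : σ} (hij : i ≠ j) (hneg : v.1 j < 0) (t : ℕ) : ↥(region I α) :=
  ⟨v.1 + (t:ℤ) • Pi.single i 1, by
    have h1 := vec_src_of_mem_region v.2
    have h2 := src_mem_of_mem_region v.2
    rw [← h1, ← vec_add_single_nat]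
    refine (vec_mem_region_iff (exps_add h2 _)).2 (fun h => ?_)
    have := h.1 j
    rw [← vec_apply, vec_add_single_nat, h1] at this
    simp [Pi.single_apply, Ne.symm hij] at this
    omega⟩

lemma ray_val (v : ↥(region I α)) {i j : σ} (hij : i ≠ j) (hneg : v.1 j < 0) (t : ℕ) :
    (ray v hij hneg t).1 = v.1 + (t:ℤ) • Pi.single i 1 := rfl

lemma ray_reachable (v : ↥(region I α)) {i j : σ} (hij : i ≠ j) (hneg : v.1 j < 0) (t : ℕ) :
    (regGraph I α).Reachable v (ray v hij hneg t) := by
  induction t with
  | zero =>
    have : ray v hij hneg 0 = v := Subtype.ext (by simp [ray_val])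
    rw [this]
  | succ t ih =>
    refine ih.trans (SimpleGraph.Adj.reachable ?_)
    rw [regGraph_adj_iff]
    refine ⟨i, Or.inl ?_⟩
    rw [ray_val, ray_val]
    push_cast
    rw [add_smul, one_smul, add_assoc]

lemma infinite_supp_of_neg [Nontrivial σ] (v : ↥(region I α)) (hneg : ∃ j, v.1 j < 0) :
    ((regGraph I α).connectedComponentMk v).supp.Infinite := by
  obtain ⟨j, hj⟩ := hneg
  obtain ⟨i, hij⟩ := exists_ne j
  refine Set.infinite_of_injective_forall_mem (f := ray v hij hj) ?_ ?_
  · intro s t hst
    have := congrFun (congrArg Subtype.val hst) i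
    simp only [ray_val, Pi.add_apply, Pi.smul_apply, Pi.single_eq_same, smul_eq_mul, mul_one] at this
    exact_mod_cast add_left_cancel this
  · intro t
    rw [SimpleGraph.ConnectedComponent.mem_supp_iff]
    exact (SimpleGraph.ConnectedComponent.sound (ray_reachable v hij hj t)).symm

variable (α)

include hI in
lemma neg_of_infinite_supp [Module.Finite k (MvPolynomial σ k ⧸ I)]
    (c : (regGraph I α).ConnectedComponent) (h : c.supp.Infinite) :
    ∃ v ∈ c.supp, ∃ j, v.1 j < 0 := by
  by_contra hcon
  push_neg at hcon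
  haveI := finite_nonneg_pts (k := k) hI α
  apply h
  have hfin : (Set.range (fun v : {v : ↥(region I α) // ∀ i, 0 ≤ v.1 i} => v.1)).Finite :=
    Set.finite_range _
  refine hfin.subset ?_
  intro v hv
  exact ⟨⟨v, hcon v hv⟩, rfl⟩

/-- the finite components -/
abbrev Cfin : Type _ := {c : (regGraph I α).ConnectedComponent // c.supp.Finite}

/-- a representative of a component -/
def rep (c : (regGraph I α).ConnectedComponent) : ↥(region I α) := Quot.out c

lemma mk_rep (c : (regGraph I α).ConnectedComponent) :
    (regGraph I α).connectedComponentMk (rep α c) = c := Quot.out_eq c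

lemma nonneg_of_finite_supp [Nontrivial σ] (c : (regGraph I α).ConnectedComponent)
    (h : c.supp.Finite) (v : ↥(region I α)) (hv : v ∈ c.supp) : ∀ i, 0 ≤ v.1 i := by
  by_contra hcon
  push_neg at hcon
  have := infinite_supp_of_neg v hcon
  rw [(SimpleGraph.ConnectedComponent.mem_supp_iff c v).1 hv] at this
  exact this h

include hI in
lemma finite_Cfin [Nontrivial σ] [Module.Finite k (MvPolynomial σ k ⧸ I)] : Finite (Cfin (I := I) α) := by
  haveI := finite_nonneg_pts (k := k) hI α
  let f : Cfin (I := I) α → {v : ↥(region I α) // ∀ i, 0 ≤ v.1 i} := fun c =>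
    ⟨rep α c.1, nonneg_of_finite_supp α c.1 c.2 _
      ((SimpleGraph.ConnectedComponent.mem_supp_iff _ _).2 (mk_rep α c.1))⟩
  refine Finite.of_injective f ?_
  intro c d h
  have h' : rep α c.1 = rep α d.1 := congrArg Subtype.val h
  apply Subtype.ext
  rw [← mk_rep α c.1, ← mk_rep α d.1, h']

/-- The comparison map from `W` to functions on finite components. -/
def Theta : W I α →ₗ[k] (Cfin (I := I) α → k) :=
  LinearMap.pi fun c => (LinearMap.proj (rep α c.1)).comp (W I α).subtype

lemma Theta_apply (g : W I α) (c : Cfin (I := I) α) : Theta α g c = g.1 (rep α c.1) := rfl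

include hI in
lemma Theta_injective [Nontrivial σ] [Module.Finite k (MvPolynomial σ k ⧸ I)] :
    Function.Injective (Theta (I := I) (k := k) α) := by
  refine (injective_iff_map_eq_zero _).2 ?_
  intro g hg
  apply Subtype.ext
  funext v
  show g.1 v = 0
  by_cases hfin : ((regGraph I α).connectedComponentMk v).supp.Finite
  · have h1 := congrFun hg ⟨_, hfin⟩
    rw [Theta_apply] at h1
    simp only at h1
    have hreach : (regGraph I α).Reachable (rep α ((regGraph I α).connectedComponentMk v)) v :=
      SimpleGraph.ConnectedComponent.exact (mk_rep α _)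
    rw [← W_const_of_reachable g.2 hreach]
    exact h1
  · obtain ⟨w, hw, hneg⟩ := neg_of_infinite_supp hI α _ hfin
    have hreach : (regGraph I α).Reachable w v :=
      SimpleGraph.ConnectedComponent.exact ((SimpleGraph.ConnectedComponent.mem_supp_iff _ _).1 hw)
    rw [← W_const_of_reachable g.2 hreach]
    exact g.2.2 w hneg

lemma Theta_surjective [Nontrivial σ] :
    Function.Surjective (Theta (I := I) (k := k) α) := by
  intro h
  set h' : (regGraph I α).ConnectedComponent → k := fun c =>
    if hfin : c.supp.Finite then h ⟨c, hfin⟩ else 0 with hh'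
  refine ⟨⟨fun v => h' ((regGraph I α).connectedComponentMk v), ?_, ?_⟩, ?_⟩
  · intro v w hadj
    show h' _ = h' _
    rw [SimpleGraph.ConnectedComponent.connectedComponentMk_eq_of_adj hadj]
  · intro v hneg
    show h' _ = 0
    simp only [hh']
    rw [dif_neg]
    exact infinite_supp_of_neg v hneg
  · funext c
    rw [Theta_apply]
    show h' _ = h c
    rw [mk_rep]
    simp only [hh']
    rw [dif_pos c.2]

/-- `W I α` is isomorphic to functions on the finite components. -/
def WEquiv [Nontrivial σ] [Module.Finite k (MvPolynomial σ k ⧸ I)] :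
    W I α ≃ₗ[k] (Cfin (I := I) α → k) :=
  LinearEquiv.ofBijective (Theta α) ⟨Theta_injective hI α, Theta_surjective α⟩

include hI in
/-- The bounded connected components theorem. -/
theorem finrank_tPiece_eq_nBddComp [Nontrivial σ] [Module.Finite k (MvPolynomial σ k ⧸ I)] :
    Module.finrank k ↥(tPiece I α) = nBddComp I α := by
  haveI := finite_Cfin (k := k) hI α
  haveI : Fintype (Cfin (I := I) α) := Fintype.ofFinite _
  rw [(tPieceEquivW hI α).finrank_eq, (WEquiv hI α).finrank_eq, Module.finrank_fintype_fun_eq_card]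
  unfold nBddComp
  rw [Nat.card_eq_fintype_card]

end stage2

end Groth.Agent.Lib.Helper6.Hilbpn
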