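import Mathlib
import Groth.Prelude.Def_W4c1hilbpnTgt
import Groth.Agent.Lib.Helper6.Hilbpn.Stage2

/-! Graded projections of `T(I)`, independence of the graded pieces and `T(I) = ⨆ T(I)_α`. -/

open scoped Classical
set_option linter.unusedSectionVars false
set_option autoImplicit false
noncomputable section

namespace Groth.Agent.Lib.Helper6.Hilbpn
open MvPolynomial W4c1hilbpn

variable {σ : Type*} {k : Type*} [Field k] [Fintype σ]

section decomp
variable {I : Ideal (MvPolynomial σ k)} (hI : IsMonomial I) (α : σ → ℤ)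

lemma coeffQ'_zero_of_mem {w : σ →₀ ℕ} (hw : w ∈ exps I) (q : MvPolynomial σ k ⧸ I) :
    coeffQ' hI w q = 0 := by
  unfold coeffQ'; rw [dif_neg (not_not.2 hw)]; rfl

lemma coeffQ'_X_smul (w : σ →₀ ℕ) (i : σ) (q : MvPolynomial σ k ⧸ I)
    (hw : w + Finsupp.single i 1 ∉ exps I) :
    coeffQ' hI (w + Finsupp.single i 1) ((X i : MvPolynomial σ k) • q) = coeffQ' hI w q := by
  obtain ⟨p, rfl⟩ := Ideal.Quotient.mk_surjective q
  have hw0 : w ∉ exps I := fun h => hw (exps_add h _)
  have : (X i : MvPolynomial σ k) • (Ideal.Quotient.mk I p) = Ideal.Quotient.mk I (X i * p) := rfl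
  rw [this, coeffQ'_mk hI hw, coeffQ'_mk hI hw0, add_comm, coeff_X_mul]

lemma coeffQ'_X_smul_zero (w : σ →₀ ℕ) (i : σ) (q : MvPolynomial σ k ⧸ I) (hwi : w i = 0) :
    coeffQ' hI w ((X i : MvPolynomial σ k) • q) = 0 := by
  by_cases hw : w ∈ exps I
  · exact coeffQ'_zero_of_mem hI hw _
  obtain ⟨p, rfl⟩ := Ideal.Quotient.mk_surjective q
  have : (X i : MvPolynomial σ k) • (Ideal.Quotient.mk I p) = Ideal.Quotient.mk I (X i * p) := rfl
  rw [this, coeffQ'_mk hI hw, coeff_X_mul', if_neg]
  rw [Finsupp.mem_support_iff]; exact not_not.2 hwi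

/-- the function defining the graded component on monomials -/
def compF (φ : Tgt I) (β : σ →₀ ℕ) : MvPolynomial σ k ⧸ I :=
  if nn α β then
    (if hβ : β ∈ exps I then coeffQ' hI (shift β α) (φ (monI I β hβ)) else 0) •
      Ideal.Quotient.mk I (monomial (shift β α) 1)
  else 0

lemma compF_of_mem (φ : Tgt I) {β : σ →₀ ℕ} (hβ : β ∈ exps I) :
    compF hI α φ β = if nn α β then
      coeffQ' hI (shift β α) (φ (monI I β hβ)) • Ideal.Quotient.mk I (monomial (shift β α) 1)
    else 0 := by
  unfold compF; rw [dif_pos hβ]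

lemma compF_compat (φ : Tgt I) (β : σ →₀ ℕ) (hβ : β ∈ exps I) (i : σ) :
    compF hI α φ (β + Finsupp.single i 1) = (X i : MvPolynomial σ k) • compF hI α φ β := by
  have hβi : β + Finsupp.single i 1 ∈ exps I := exps_add hβ _
  rw [compF_of_mem hI α φ hβ, compF_of_mem hI α φ hβi]
  by_cases hnn : nn α β
  · have hnn' := nn_add_single hnn i
    rw [if_pos hnn, if_pos hnn', shift_add_single (hnn i), smul_comm, smul_mk_monomial]
    by_cases hs : shift β α + Finsupp.single i 1 ∈ exps I
    · rw [mk_monomial_eq_zero_iff.2 hs, smul_zero, smul_zero]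
    · rw [tgt_monI_add_single φ β hβ i, coeffQ'_X_smul hI _ _ _ hs]
  · rw [if_neg hnn, smul_zero]
    by_cases hnn' : nn α (β + Finsupp.single i 1)
    · rw [if_pos hnn', tgt_monI_add_single φ β hβ i, coeffQ'_X_smul_zero, zero_smul]
      -- the i-th coordinate of the shift is zero
      unfold nn at hnn
      push_neg at hnn
      obtain ⟨j, hj⟩ := hnn
      have hji : j = i := by
        by_contra hne
        have := hnn' j
        simp [Finsupp.single_apply, Ne.symm hne] at this
        omega
      subst hji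
      have := hnn' j
      simp only [shift_apply, Finsupp.coe_add, Pi.add_apply, Finsupp.single_eq_same, Nat.cast_add,
        Nat.cast_one] at this ⊢
      omega
    · rw [if_neg hnn']

/-- the `k`-linear map on `S` defining the graded component -/
def compLin (φ : Tgt I) : MvPolynomial σ k →ₗ[k] (MvPolynomial σ k ⧸ I) :=
  (basisMonomials σ k).constr k (compF hI α φ)

lemma compLin_monomial (φ : Tgt I) (β : σ →₀ ℕ) :
    compLin hI α φ (monomial β 1) = compF hI α φ β := by
  have : monomial β (1:k) = basisMonomials σ k β := by rw [coe_basisMonomials]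
  rw [this, compLin, Module.Basis.constr_basis]

/-- the graded component of degree `α` of `φ` -/
def comp (φ : Tgt I) : Tgt I :=
  mkTgt hI (compLin hI α φ) (by
    intro β hβ i
    rw [compLin_monomial, compLin_monomial, compF_compat hI α φ β hβ i])

lemma comp_apply_monI (φ : Tgt I) {β : σ →₀ ℕ} (hβ : β ∈ exps I) :
    comp hI α φ (monI I β hβ) = if nn α β then
      coeffQ' hI (shift β α) (φ (monI I β hβ)) • Ideal.Quotient.mk I (monomial (shift β α) 1)
    else 0 := by
  unfold comp
  rw [mkTgt_apply, monI_coe, compLin_monomial, compF_of_mem hI α φ hβ]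

lemma comp_mem (φ : Tgt I) : comp hI α φ ∈ tPiece I α := by
  intro β hβ
  have := comp_apply_monI hI α φ hβ
  refine ⟨fun h => ?_, fun h => ?_⟩
  · change comp hI α φ (monI I β hβ) ∈ _
    rw [this, if_pos (show nn α β from h)]
    exact Submodule.smul_mem _ _ (Submodule.mem_span_singleton_self _)
  · change comp hI α φ (monI I β hβ) = 0
    rw [this, if_neg]
    intro hnn
    obtain ⟨i, hi⟩ := h
    exact absurd (hnn i) (not_le.2 hi)

lemma comp_of_mem {φ : Tgt I} (hφ : φ ∈ tPiece I α) : comp hI α φ = φ := by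
  apply tgt_ext hI
  intro β hβ
  rw [comp_apply_monI hI α φ hβ]
  by_cases hnn : nn α β
  · rw [if_pos hnn]
    obtain ⟨c, hc⟩ := tPiece_apply_of_nn hφ hβ hnn
    by_cases hs : shift β α ∈ exps I
    · rw [hc, mk_monomial_eq_zero_iff.2 hs, smul_zero, smul_zero]
    · rw [hc, map_smul, coeffQ'_mk_monomial hI hs, if_pos rfl, smul_eq_mul, mul_one]
  · rw [if_neg hnn, tPiece_apply_of_not_nn hφ hβ hnn]

lemma shift_ne_of_ne {α α' : σ → ℤ} {β : σ →₀ ℕ} (h : nn α β) (h' : nn α' β) (hne : α' ≠ α) :
    shift β α' ≠ shift β α := by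
  intro heq
  apply hne
  funext i
  have := DFunLike.congr_fun heq i
  simp only [shift_apply] at this
  have h1 := h i
  have h2 := h' i
  omega

lemma comp_of_mem_ne {φ : Tgt I} {α' : σ → ℤ} (hφ : φ ∈ tPiece I α') (hne : α' ≠ α) :
    comp hI α φ = 0 := by
  apply tgt_ext hI
  intro β hβ
  rw [comp_apply_monI hI α φ hβ, LinearMap.zero_apply]
  by_cases hnn : nn α β
  · rw [if_pos hnn]
    by_cases hnn' : nn α' β
    · obtain ⟨c, hc⟩ := tPiece_apply_of_nn hφ hβ hnn'
      by_cases hs : shift β α ∈ exps I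
      · rw [mk_monomial_eq_zero_iff.2 hs, smul_zero]
      · rw [hc, map_smul, coeffQ'_mk_monomial hI hs, if_neg (shift_ne_of_ne hnn hnn' hne),
          smul_zero, zero_smul]
    · rw [tPiece_apply_of_not_nn hφ hβ hnn', map_zero, zero_smul]
  · rw [if_neg hnn]

lemma comp_add (φ ψ : Tgt I) : comp hI α (φ + ψ) = comp hI α φ + comp hI α ψ := by
  apply tgt_ext hI
  intro β hβ
  rw [LinearMap.add_apply, comp_apply_monI, comp_apply_monI, comp_apply_monI]
  by_cases hnn : nn α β
  · simp only [if_pos hnn, LinearMap.add_apply, map_add, add_smul]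
  · simp only [if_neg hnn, add_zero]

lemma comp_smul (c : k) (φ : Tgt I) : comp hI α (c • φ) = c • comp hI α φ := by
  apply tgt_ext hI
  intro β hβ
  rw [LinearMap.smul_apply, comp_apply_monI, comp_apply_monI]
  by_cases hnn : nn α β
  · simp only [if_pos hnn, LinearMap.smul_apply, map_smul, smul_assoc]
  · simp only [if_neg hnn, smul_zero]

/-- graded projection as a `k`-linear map -/
def compL : Tgt I →ₗ[k] Tgt I where
  toFun := comp hI α
  map_add' := comp_add hI α
  map_smul' := comp_smul hI α

@[simp] lemma compL_apply (φ : Tgt I) : compL hI α φ = comp hI α φ := rfl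

include hI in
/-- The graded pieces are independent. -/
theorem iSupIndep_tPiece : iSupIndep (fun α : σ → ℤ => tPiece I α) := by
  rw [iSupIndep_def]
  intro α
  rw [Submodule.disjoint_def]
  intro φ h1 h2
  have hk : (⨆ (j : σ → ℤ) (_ : j ≠ α), tPiece I j) ≤ LinearMap.ker (compL hI α) := by
    refine iSup_le fun j => iSup_le fun hj => ?_
    intro ψ hψ
    rw [LinearMap.mem_ker, compL_apply]
    exact comp_of_mem_ne hI α hψ hj
  have := hk h2
  rw [LinearMap.mem_ker, compL_apply, comp_of_mem hI α h1] at this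
  exact this

end decomp

section gens
variable {I : Ideal (MvPolynomial σ k)} (hI : IsMonomial I)

include hI in
lemma exists_finite_gens : ∃ G : Finset (σ →₀ ℕ), (∀ w ∈ G, w ∈ exps I) ∧
    ∀ ψ : Tgt I, (∀ w ∈ G, ∀ h : w ∈ exps I, ψ (monI I w h) = 0) → ψ = 0 := by
  obtain ⟨T, hT⟩ := (isNoetherianRing_iff_ideal_fg (MvPolynomial σ k)).1 inferInstance I
  have hTI : ∀ t ∈ T, t ∈ I := fun t ht => hT ▸ Ideal.subset_span ht
  refine ⟨T.biUnion (fun t => t.support), ?_, ?_⟩
  · intro w hw
    obtain ⟨t, ht, hwt⟩ := Finset.mem_biUnion.1 hw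
    exact hI t (hTI t ht) w hwt
  · intro ψ hψ
    set G := T.biUnion (fun t => t.support) with hG
    set J : Ideal (MvPolynomial σ k) := Ideal.span ((fun w => monomial w (1:k)) '' (G : Set (σ →₀ ℕ))) with hJ
    have hJI : J ≤ I := by
      rw [hJ, Ideal.span_le]
      rintro _ ⟨w, hw, rfl⟩
      obtain ⟨t, ht, hwt⟩ := Finset.mem_biUnion.1 hw
      exact hI t (hTI t ht) w hwt
    have hIJ : I ≤ J := by
      rw [← hT, Ideal.span_le]
      intro t ht
      rw [SetLike.mem_coe, t.as_sum]
      refine J.sum_mem fun w hw => ?_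
      have : monomial w (coeff w t) = C (coeff w t) * monomial w (1:k) := by
        rw [C_mul_monomial, mul_one]
      rw [this]
      refine J.mul_mem_left _ (Ideal.subset_span ⟨w, ?_, rfl⟩)
      exact Finset.mem_coe.2 (Finset.mem_biUnion.2 ⟨t, ht, hw⟩)
    have key : ∀ p (hp : p ∈ J) (hp' : p ∈ I), ψ ⟨p, hp'⟩ = 0 := by
      intro p hp
      induction hp using Submodule.span_induction with
      | mem x hx =>
        obtain ⟨w, hw, rfl⟩ := hx
        intro hp'
        exact hψ w hw hp'
      | zero =>
        intro _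
        exact map_zero ψ
      | add x y hx hy ihx ihy =>
        intro _
        have hx' : x ∈ I := hJI hx
        have hy' : y ∈ I := hJI hy
        have : (⟨x + y, ‹_›⟩ : I) = ⟨x, hx'⟩ + ⟨y, hy'⟩ := rfl
        rw [this, map_add, ihx hx', ihy hy', add_zero]
      | smul a x hx ihx =>
        intro _
        have hx' : x ∈ I := hJI hx
        have : (⟨a • x, ‹_›⟩ : I) = a • ⟨x, hx'⟩ := rfl
        rw [this, map_smul, ihx hx', smul_zero]
    ext x
    exact key x.1 (hIJ x.2) x.2

/-- every element of `T(I)` is a finite sum of its graded components -/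
lemma exists_sum_comp (φ : Tgt I) : ∃ A : Finset (σ → ℤ), φ = ∑ α ∈ A, comp hI α φ := by
  obtain ⟨G, hG, hGψ⟩ := exists_finite_gens hI
  -- for each generator, the finitely many degrees appearing in its image
  have hrep : ∀ w : σ →₀ ℕ, ∀ hw : w ∈ exps I, ∃ p : MvPolynomial σ k,
      φ (monI I w hw) = Ideal.Quotient.mk I p := fun w hw =>
    ⟨_, (Ideal.Quotient.mk_surjective _).choose_spec.symm⟩
  choose P hP using hrep
  set A : Finset (σ → ℤ) := G.attach.biUnion (fun w =>
    (P w.1 (hG w.1 w.2)).support.image (fun u i => (u i : ℤ) - (w.1 i : ℤ))) with hA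
  have hsum : φ = ∑ α ∈ A, comp hI α φ := by
    rw [← sub_eq_zero]
    apply hGψ
    intro w hwG hw
    rw [LinearMap.sub_apply, LinearMap.sum_apply, sub_eq_zero]
    simp only [comp_apply_monI hI _ φ hw]
    rw [hP w hw]
    set p := P w hw with hp
    -- expand the class of `p` along standard monomials
    have h1 : Ideal.Quotient.mk I p = ∑ u ∈ p.support,
        coeffQ' hI u (Ideal.Quotient.mk I p) • Ideal.Quotient.mk I (monomial u (1:k)) := by
      conv_lhs => rw [p.as_sum, map_sum]
      refine Finset.sum_congr rfl fun u _ => ?_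
      by_cases hu : u ∈ exps I
      · rw [mk_monomial_eq_zero_iff.2 hu, smul_zero]
        have : monomial u (coeff u p) = C (coeff u p) * monomial u (1:k) := by
          rw [C_mul_monomial, mul_one]
        rw [this, map_mul, mk_monomial_eq_zero_iff.2 hu, mul_zero]
      · rw [coeffQ'_mk hI hu]
        have : monomial u (coeff u p) = coeff u p • monomial u (1:k) := by
          rw [smul_monomial, smul_eq_mul, mul_one]
        rw [this]
        rfl
    -- reindex the sum over `α ∈ A`
    set f : (σ →₀ ℕ) → (σ → ℤ) := fun u i => (u i : ℤ) - (w i : ℤ) with hf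
    have hfA : ∀ u ∈ p.support, f u ∈ A := by
      intro u hu
      rw [hA, Finset.mem_biUnion]
      exact ⟨⟨w, hwG⟩, Finset.mem_attach _ _, Finset.mem_image.2 ⟨u, hu, rfl⟩⟩
    have hfnn : ∀ u, nn (f u) w := by
      intro u i; simp [hf]
    have hfshift : ∀ u, shift w (f u) = u := by
      intro u; ext i; simp [hf]
    have hfinj : ∀ u u', f u = f u' → u = u' := by
      intro u u' h
      rw [← hfshift u, ← hfshift u', h]
    conv_lhs => rw [h1]
    rw [← Finset.sum_subset (s₁ := p.support.image f)]
    · rw [Finset.sum_image (fun u _ u' _ h => hfinj u u' h)]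
      refine Finset.sum_congr rfl fun u _ => ?_
      rw [if_pos (hfnn u), hfshift u]
    · intro a ha
      obtain ⟨u, hu, rfl⟩ := Finset.mem_image.1 ha
      exact hfA u hu
    · intro a _ ha
      by_cases hnn : nn a w
      · rw [if_pos hnn]
        by_cases hs : shift w a ∈ exps I
        · rw [mk_monomial_eq_zero_iff.2 hs, smul_zero]
        · rw [coeffQ'_mk hI hs]
          have : coeff (shift w a) p = 0 := by
            by_contra hne
            apply ha
            refine Finset.mem_image.2 ⟨shift w a, mem_support_iff.2 hne, ?_⟩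
            funext i
            have := hnn i
            simp only [hf, shift_apply]
            omega
          rw [this, zero_smul]
      · rw [if_neg hnn]
  exact ⟨A, hsum⟩

include hI in
/-- `T(I)` is the sum of its graded pieces. -/
theorem iSup_tPiece_eq_top : (⨆ α : σ → ℤ, tPiece I α) = ⊤ := by
  refine eq_top_iff.2 fun φ _ => ?_
  obtain ⟨A, hsum⟩ := exists_sum_comp hI φ
  rw [hsum]
  exact Submodule.sum_mem _ fun α _ => Submodule.mem_iSup_of_mem α (comp_mem hI α φ)

end gens

end Groth.Agent.Lib.Helper6.Hilbpn
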