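import Mathlib

/-! Dimension of a supremum of independent subspaces. -/

open scoped Classical
set_option linter.unusedSectionVars false
set_option autoImplicit false
noncomputable section

namespace Groth.Agent.Lib.Helper6.Hilbpn

variable {ι : Type*} {K V : Type*} [Field K] [AddCommGroup V] [Module K V]

theorem finrank_biSup_finset (p : ι → Submodule K V) (hind : iSupIndep p) (s : Finset ι)
    (hfin : ∀ i ∈ s, Module.Finite K (p i)) :
    Module.Finite K ↥(⨆ i ∈ s, p i) ∧
      Module.finrank K ↥(⨆ i ∈ s, p i) = ∑ i ∈ s, Module.finrank K (p i) := by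
  induction s using Finset.induction_on with
  | empty =>
    have h0 : (⨆ i ∈ (∅ : Finset ι), p i) = ⊥ := by simp
    rw [h0, Finset.sum_empty]
    exact ⟨inferInstance, finrank_bot K V⟩
  | insert a s ha ih =>
    have hfin' : ∀ i ∈ s, Module.Finite K (p i) := fun i hi => hfin i (Finset.mem_insert_of_mem hi)
    obtain ⟨h1, h2⟩ := ih hfin'
    haveI := h1
    haveI : Module.Finite K (p a) := hfin a (Finset.mem_insert_self a s)
    rw [Finset.iSup_insert, Finset.sum_insert ha]
    have hdisj : Disjoint (p a) (⨆ i ∈ s, p i) := by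
      have := hind.disjoint_biSup (x := a) (y := (s : Set ι)) (by simpa using ha)
      simpa using this
    refine ⟨inferInstance, ?_⟩
    have h3 := Submodule.finrank_sup_add_finrank_inf_eq (p a) (⨆ i ∈ s, p i)
    rw [hdisj.eq_bot, finrank_bot, add_zero] at h3
    rw [h3, h2]

theorem finrank_iSup_subtype (p : ι → Submodule K V) (hind : iSupIndep p) (P : ι → Prop)
    (F : Finset ι) (hFP : ∀ i ∈ F, P i) (hF : ∀ i, P i → i ∉ F → p i = ⊥)
    (hfin : ∀ i ∈ F, Module.Finite K (p i)) :
    Module.finrank K ↥(⨆ i : {i // P i}, p i.1) = ∑ i ∈ F, Module.finrank K (p i) := by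
  have heq : (⨆ i : {i // P i}, p i.1) = ⨆ i ∈ F, p i := by
    apply le_antisymm
    · refine iSup_le fun i => ?_
      by_cases hi : i.1 ∈ F
      · exact le_biSup p hi
      · rw [hF i.1 i.2 hi]; exact bot_le
    · refine iSup_le fun i => iSup_le fun hi => ?_
      exact le_iSup (fun i : {i // P i} => p i.1) ⟨i, hFP i hi⟩
  rw [heq]
  exact (finrank_biSup_finset p hind F hfin).2

theorem finite_iSup_subtype (p : ι → Submodule K V) (hind : iSupIndep p) (P : ι → Prop)
    (F : Finset ι) (hFP : ∀ i ∈ F, P i) (hF : ∀ i, P i → i ∉ F → p i = ⊥)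
    (hfin : ∀ i ∈ F, Module.Finite K (p i)) :
    Module.Finite K ↥(⨆ i : {i // P i}, p i.1) := by
  have heq : (⨆ i : {i // P i}, p i.1) = ⨆ i ∈ F, p i := by
    apply le_antisymm
    · refine iSup_le fun i => ?_
      by_cases hi : i.1 ∈ F
      · exact le_biSup p hi
      · rw [hF i.1 i.2 hi]; exact bot_le
    · refine iSup_le fun i => iSup_le fun hi => ?_
      exact le_iSup (fun i : {i // P i} => p i.1) ⟨i, hFP i hi⟩
  rw [heq]
  exact (finrank_biSup_finset p hind F hfin).1

end Groth.Agent.Lib.Helper6.Hilbpn
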