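import Mathlib
import Groth.Prelude.Def_W4c1hilbpnTgt
import Groth.Agent.Lib.Helper6.Hilbpn.Decomp

/-! Vanishing of `T(I)_α` for `α ≥ 0` and for `α < 0`. -/

open scoped Classical
set_option linter.unusedSectionVars false
set_option autoImplicit false
noncomputable section

namespace Groth.Agent.Lib.Helper6.Hilbpn
open MvPolynomial W4c1hilbpn

variable {σ : Type*} {k : Type*} [Field k] [Fintype σ]

section vanish
variable {I : Ideal (MvPolynomial σ k)} (hI : IsMonomial I) {α : σ → ℤ}

include hI in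
lemma tPiece_eq_bot_of_W (h : ∀ g ∈ W I α, g = 0) : tPiece I α = ⊥ := by
  rw [eq_bot_iff]
  intro φ hφ
  have h1 : (tPieceEquivW hI α ⟨φ, hφ⟩).1 = 0 := h _ (tPieceEquivW hI α ⟨φ, hφ⟩).2
  have h2 : tPieceEquivW hI α ⟨φ, hφ⟩ = 0 := Subtype.ext h1
  have h3 : (⟨φ, hφ⟩ : tPiece I α) = 0 := by
    rw [← (tPieceEquivW hI α).map_eq_zero_iff]; exact h2
  exact congrArg Subtype.val h3

lemma region_empty_of_nonneg (hα : ∀ i, 0 ≤ α i) (v : σ → ℤ) : v ∉ region I α := by
  intro hv
  obtain ⟨⟨β, hβ, hvβ⟩, hnot⟩ := hv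
  apply hnot
  have hv' : v = vec α β := hvβ
  refine ⟨fun i => ?_, ?_⟩
  · rw [hv']; simp only [vec_apply]; have := hα i; positivity
  · show toNatVec v ∈ exps I
    refine exps_of_le hβ ?_
    intro i
    rw [hv']
    simp only [toNatVec_apply, vec_apply]
    have := hα i
    omega

include hI in
theorem tPiece_eq_bot_of_nonneg (hα : ∀ i, 0 ≤ α i) : tPiece I α = ⊥ := by
  apply tPiece_eq_bot_of_W hI
  intro g _
  funext v
  exact absurd v.2 (region_empty_of_nonneg hα v.1)

include hI in
lemma exists_bound [Module.Finite k (MvPolynomial σ k ⧸ I)] (j : σ) :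
    ∃ M : ℕ, ∀ w : σ →₀ ℕ, w ∉ exps I → w j < M := by
  haveI := finite_std (k := k) hI
  obtain ⟨M, hM⟩ := (Set.finite_range (fun w : {v : σ →₀ ℕ // v ∉ exps I} => w.1 j)).bddAbove
  refine ⟨M + 1, fun w hw => ?_⟩
  have := hM ⟨⟨w, hw⟩, rfl⟩
  exact Nat.lt_succ_of_le this

lemma reach_neg_of_all_neg (hα : ∀ i, α i < 0) {i j : σ} (hij : i ≠ j) (M : ℕ)
    (hM : ∀ w : σ →₀ ℕ, w ∉ exps I → w j < M) :
    ∀ N : ℕ, ∀ v : ↥(region I α), (∀ l, 0 ≤ v.1 l) →
      (v.1 i).toNat * (M + 1) + (M - (v.1 j).toNat) = N →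
      ∃ w : ↥(region I α), (regGraph I α).Reachable v w ∧ ∃ l, w.1 l < 0 := by
  intro N
  induction N using Nat.strong_induction_on with
  | _ N ih =>
  intro v hv hN
  have hβ : src α v.1 ∈ exps I := src_mem_of_mem_region v.2
  have hvec : vec α (src α v.1) = v.1 := vec_src_of_mem_region v.2
  have hstd : toNatVec v.1 ∉ exps I := not_mem_exps_of_mem_region v.2 hv
  by_cases hA : ∃ β' ∈ exps I, vec α β' = v.1 - Pi.single i 1
  · obtain ⟨β', hβ', hvβ'⟩ := hA
    have hu : v.1 - Pi.single i 1 ∈ region I α := by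
      refine ⟨⟨β', hβ', hvβ'.symm⟩, fun h => hstd ?_⟩
      have h1 : v.1 = (v.1 - Pi.single i 1) + Pi.single i 1 := by abel
      rw [h1, toNatVec_add_single (h.1 i)]
      exact exps_add h.2 _
    have hadj : (regGraph I α).Adj v ⟨_, hu⟩ := by
      rw [regGraph_adj_iff]
      exact ⟨i, Or.inr (by simp)⟩
    by_cases hvi : v.1 i = 0
    · refine ⟨⟨_, hu⟩, hadj.reachable, i, ?_⟩
      simp [hvi]
    · have hvi' : 1 ≤ v.1 i := by have := hv i; omega
      have hu0 : ∀ l, 0 ≤ (⟨_, hu⟩ : ↥(region I α)).1 l := by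
        intro l
        by_cases hl : l = i
        · subst hl; simp; omega
        · simp [Pi.single_apply, hl, hv l]
      have hlt : (((v.1 - Pi.single i 1 : σ → ℤ)) i).toNat * (M + 1) + (M - (((v.1 - Pi.single i 1 : σ → ℤ)) j).toNat) < N := by
        rw [← hN]
        simp only [Pi.sub_apply, Pi.single_eq_same, Pi.single_apply, if_neg (Ne.symm hij), sub_zero]
        have h1 : (v.1 i - 1).toNat + 1 = (v.1 i).toNat := by omega
        rw [← h1]
        nlinarith
      obtain ⟨w, hw1, hw2⟩ := ih _ hlt ⟨_, hu⟩ hu0 rfl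
      exact ⟨w, hadj.reachable.trans hw1, hw2⟩
  · have hβj : src α v.1 + Finsupp.single j 1 ∈ exps I := exps_add hβ _
    have hvj : (v.1 j).toNat < M := by
      have := hM _ hstd
      simpa using this
    have hu : v.1 + Pi.single j 1 ∈ region I α := by
      rw [← hvec, ← vec_add_single]
      refine (vec_mem_region_iff hβj).2 (fun h => hA ?_)
      have hs : shift (src α v.1 + Finsupp.single j 1) α = toNatVec v.1 + Finsupp.single j 1 := by
        rw [shift_eq, vec_add_single, hvec, toNatVec_add_single (hv j)]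
      have h2 := h.2
      rw [hs] at h2
      refine ⟨src α (v.1 - Pi.single i 1), exps_of_le h2 ?_, ?_⟩
      · intro l
        simp only [Finsupp.coe_add, Pi.add_apply, toNatVec_apply, src_apply, Pi.sub_apply]
        have h3 := hα l
        have h4 := hv l
        by_cases hli : l = i
        · subst hli
          simp [Finsupp.single_apply, Ne.symm hij]
          omega
        · by_cases hlj : l = j
          · subst hlj
            simp [Pi.single_apply, hli]
            omega
          · simp [Finsupp.single_apply, Pi.single_apply, hli, hlj, Ne.symm hlj]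
            omega
      · funext l
        simp only [vec_apply, src_apply, Pi.sub_apply]
        have h3 := hα l
        have h4 := hv l
        by_cases hli : l = i
        · subst hli; simp; omega
        · simp [Pi.single_apply, hli]; omega
    have hadj : (regGraph I α).Adj v ⟨_, hu⟩ := by
      rw [regGraph_adj_iff]
      exact ⟨j, Or.inl rfl⟩
    have hu0 : ∀ l, 0 ≤ (⟨_, hu⟩ : ↥(region I α)).1 l := by
      intro l
      by_cases hl : l = j
      · subst hl; simp; have := hv l; omega
      · simp [Pi.single_apply, hl, hv l]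
    have hlt : (((v.1 + Pi.single j 1 : σ → ℤ)) i).toNat * (M + 1) + (M - (((v.1 + Pi.single j 1 : σ → ℤ)) j).toNat) < N := by
      rw [← hN]
      simp only [Pi.add_apply, Pi.single_eq_same, Pi.single_apply, if_neg hij, add_zero]
      have h1 : (v.1 j + 1).toNat = (v.1 j).toNat + 1 := by have := hv j; omega
      rw [h1]
      omega
    obtain ⟨w, hw1, hw2⟩ := ih _ hlt ⟨_, hu⟩ hu0 rfl
    exact ⟨w, hadj.reachable.trans hw1, hw2⟩

include hI in
theorem tPiece_eq_bot_of_all_neg [Nontrivial σ] [Module.Finite k (MvPolynomial σ k ⧸ I)]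
    (hα : ∀ i, α i < 0) : tPiece I α = ⊥ := by
  apply tPiece_eq_bot_of_W hI
  intro g hg
  funext v
  show g v = 0
  by_cases hv : ∀ l, 0 ≤ v.1 l
  · obtain ⟨i, j, hij⟩ := exists_pair_ne σ
    obtain ⟨M, hM⟩ := exists_bound hI j
    obtain ⟨w, hw1, hw2⟩ := reach_neg_of_all_neg hα hij M hM _ v hv rfl
    rw [W_const_of_reachable hg hw1]
    exact hg.2 w hw2
  · push_neg at hv
    exact hg.2 v hv

end vanish

end Groth.Agent.Lib.Helper6.Hilbpn
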