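import Mathlib
import Groth.Prelude.Def_W4c1hilbpnTgt
import Groth.Agent.Lib.Helper6.Hilbpn.Vanish

/-! Staircase numbers and coordinates in three variables. -/

open scoped Classical
set_option linter.unusedSectionVars false
set_option autoImplicit false
noncomputable section

namespace Groth.Agent.Lib.Helper6.Hilbpn
open MvPolynomial W4c1hilbpn

variable {k : Type*} [Field k]

@[simp] lemma e3_zero (a b c : ℕ) : e3 a b c 0 = a := rfl
@[simp] lemma e3_one (a b c : ℕ) : e3 a b c 1 = b := rfl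
@[simp] lemma e3_two (a b c : ℕ) : e3 a b c 2 = c := rfl

lemma e3_ext {β β' : Fin 3 →₀ ℕ} (h0 : β 0 = β' 0) (h1 : β 1 = β' 1) (h2 : β 2 = β' 2) : β = β' := by
  ext i; fin_cases i <;> assumption

lemma eq_e3 (β : Fin 3 →₀ ℕ) : β = e3 (β 0) (β 1) (β 2) := e3_ext rfl rfl rfl

lemma e3_le_e3 {a b c a' b' c' : ℕ} (ha : a ≤ a') (hb : b ≤ b') (hc : c ≤ c') :
    e3 a b c ≤ e3 a' b' c' := by
  intro i; fin_cases i <;> assumption

lemma toNatVec_eq_e3 (v : Fin 3 → ℤ) : toNatVec v = e3 (v 0).toNat (v 1).toNat (v 2).toNat :=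
  e3_ext rfl rfl rfl

lemma src_eq_e3 (α v : Fin 3 → ℤ) :
    src α v = e3 (v 0 - α 0).toNat (v 1 - α 1).toNat (v 2 - α 2).toNat :=
  e3_ext rfl rfl rfl

lemma forall_fin3 {P : Fin 3 → Prop} : (∀ i, P i) ↔ P 0 ∧ P 1 ∧ P 2 := by
  constructor
  · intro h; exact ⟨h 0, h 1, h 2⟩
  · rintro ⟨h0, h1, h2⟩ i; fin_cases i <;> assumption

section general
variable {σ : Type*} [Fintype σ] {J : Ideal (MvPolynomial σ k)} {α v : σ → ℤ}

lemma mem_region_iff' : v ∈ region J α ↔
    (∀ i, α i ≤ v i) ∧ src α v ∈ exps J ∧ ¬ ((∀ i, 0 ≤ v i) ∧ toNatVec v ∈ exps J) := by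
  rw [mem_region]
  constructor
  · rintro ⟨⟨β, hβ, hv⟩, hnot⟩
    have hv' : v = vec α β := hv
    refine ⟨fun i => ?_, ?_, hnot⟩
    · rw [hv']; simp only [vec_apply]; omega
    · rw [hv', src_vec]; exact hβ
  · rintro ⟨h1, h2, h3⟩
    refine ⟨⟨src α v, h2, ?_⟩, h3⟩
    funext i
    simp only [vec_apply, src_apply]
    have := h1 i
    omega

end general

section stair
variable {I : Ideal (MvPolynomial (Fin 3) k)} (hI : IsMonomial I)

include hI in
lemma not_mem_iff_lt_stairZ [Module.Finite k (MvPolynomial (Fin 3) k ⧸ I)] (a b c : ℕ) :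
    e3 a b c ∉ exps I ↔ c < stairZ I a b := by
  -- the set of `c` outside is a finite lower set
  set S : Set ℕ := {c | e3 a b c ∉ exps I} with hS
  have hlower : ∀ c c', c' ≤ c → c ∈ S → c' ∈ S := by
    intro c c' hle hc hc'
    exact hc (exps_of_le hc' (e3_le_e3 le_rfl le_rfl hle))
  have hfin : S.Finite := by
    haveI := finite_std (k := k) hI
    have : Function.Injective (fun c : S => (⟨e3 a b c.1, c.2⟩ : {v : Fin 3 →₀ ℕ // v ∉ exps I})) := by
      intro c c' h
      have := congrArg (fun v : {v : Fin 3 →₀ ℕ // v ∉ exps I} => v.1 2) h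
      exact Subtype.ext (by simpa using this)
    exact Set.finite_coe_iff.1 (Finite.of_injective _ this)
  have hne : (Sᶜ).Nonempty := by
    by_contra hcon
    rw [Set.not_nonempty_iff_eq_empty, Set.compl_empty_iff] at hcon
    rw [hcon] at hfin
    exact Set.infinite_univ hfin
  set m := sInf Sᶜ with hm
  have hmS : m ∉ S := Nat.sInf_mem hne
  have hiff : ∀ c, c ∈ S ↔ c < m := by
    intro c
    constructor
    · intro hc
      by_contra hcon
      exact hmS (hlower c m (not_lt.1 hcon) hc)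
    · intro hc
      by_contra hcon
      exact absurd (Nat.sInf_le (show c ∈ Sᶜ from hcon)) (not_le.2 hc)
  have hcard : stairZ I a b = m := by
    unfold stairZ
    have e : {c : ℕ // e3 a b c ∉ exps I} ≃ Fin m :=
      (Equiv.subtypeEquivRight (fun c => hiff c)).trans Fin.equivSubtype.symm
    rw [Nat.card_congr e, Nat.card_fin]
  rw [hcard]
  exact hiff c

include hI in
lemma stairZ_le_of_bound [Module.Finite k (MvPolynomial (Fin 3) k ⧸ I)] {H : ℕ}
    (hH : ∀ w : Fin 3 →₀ ℕ, w ∉ exps I → w 2 < H) (a b : ℕ) : stairZ I a b ≤ H := by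
  by_contra hcon
  push_neg at hcon
  have := (not_mem_iff_lt_stairZ hI a b H).2 hcon
  have := hH _ this
  simp at this

include hI in
lemma stairZ_eq_zero_of_bound [Module.Finite k (MvPolynomial (Fin 3) k ⧸ I)] {B0 B1 : ℕ}
    (h0 : ∀ w : Fin 3 →₀ ℕ, w ∉ exps I → w 0 < B0) (h1 : ∀ w : Fin 3 →₀ ℕ, w ∉ exps I → w 1 < B1)
    (a b : ℕ) (hab : B0 ≤ a ∨ B1 ≤ b) : stairZ I a b = 0 := by
  by_contra hcon
  have hpos : 0 < stairZ I a b := Nat.pos_of_ne_zero hcon
  have h := (not_mem_iff_lt_stairZ hI a b 0).2 hpos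
  have g0 := h0 _ h
  have g1 := h1 _ h
  simp at g0 g1
  omega

end stair

end Groth.Agent.Lib.Helper6.Hilbpn
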