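import Mathlib
import Groth.Prelude.Def_W4c1hilbpnTgt
import Groth.Agent.Lib.Helper6.Hilbpn.Stair

/-! Local maxima of the region in three variables bound the dimension of `T(I)_α`. -/

open scoped Classical
set_option linter.unusedSectionVars false
set_option autoImplicit false
noncomputable section

namespace Groth.Agent.Lib.Helper6.Hilbpn
open MvPolynomial W4c1hilbpn

variable {k : Type*} [Field k]

section locmax
variable {I : Ideal (MvPolynomial (Fin 3) k)} (hI : IsMonomial I) (α : Fin 3 → ℤ)

/-- a nonnegative point of the region none of whose neighbours `v + e₀`, `v + e₁`, `v - e₂` lies in the region -/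
def IsLocMax (v : ↥(region I α)) : Prop :=
  (∀ i, 0 ≤ v.1 i) ∧ v.1 + Pi.single 0 1 ∉ region I α ∧ v.1 + Pi.single 1 1 ∉ region I α ∧
    v.1 - Pi.single 2 1 ∉ region I α

include hI in
lemma W_eq_zero_of_locmax [Module.Finite k (MvPolynomial (Fin 3) k ⧸ I)]
    {g : ↥(region I α) → k} (hg : g ∈ W I α) (hvan : ∀ v, IsLocMax α v → g v = 0) : g = 0 := by
  obtain ⟨B0, hB0⟩ := exists_bound hI (0 : Fin 3)
  obtain ⟨B1, hB1⟩ := exists_bound hI (1 : Fin 3)
  have key : ∀ N : ℕ, ∀ v : ↥(region I α), (∀ i, 0 ≤ v.1 i) →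
      (B0 - (v.1 0).toNat) + (B1 - (v.1 1).toNat) + (v.1 2).toNat = N → g v = 0 := by
    intro N
    induction N using Nat.strong_induction_on with
    | _ N ih =>
    intro v hv hN
    have hstd := not_mem_exps_of_mem_region v.2 hv
    have b0 := hB0 _ hstd
    have b1 := hB1 _ hstd
    simp only [toNatVec_apply] at b0 b1
    by_cases h0 : v.1 + Pi.single 0 1 ∈ region I α
    · have hadj : (regGraph I α).Adj v ⟨_, h0⟩ := by
        rw [regGraph_adj_iff]; exact ⟨0, Or.inl rfl⟩
      rw [hg.1 _ _ hadj]
      refine ih _ ?_ ⟨_, h0⟩ ?_ rfl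
      · rw [← hN]
        simp only [Pi.add_apply, Pi.single_eq_same]
        have e1 : (Pi.single (0 : Fin 3) (1 : ℤ) : Fin 3 → ℤ) 1 = 0 := by simp
        have e2 : (Pi.single (0 : Fin 3) (1 : ℤ) : Fin 3 → ℤ) 2 = 0 := by simp
        rw [e1, e2]
        have := hv 0
        omega
      · intro i
        simp only [Pi.add_apply]
        have := hv i
        have : (0:ℤ) ≤ (Pi.single (0 : Fin 3) (1 : ℤ) : Fin 3 → ℤ) i := by
          fin_cases i <;> simp
        omega
    by_cases h1 : v.1 + Pi.single 1 1 ∈ region I α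
    · have hadj : (regGraph I α).Adj v ⟨_, h1⟩ := by
        rw [regGraph_adj_iff]; exact ⟨1, Or.inl rfl⟩
      rw [hg.1 _ _ hadj]
      refine ih _ ?_ ⟨_, h1⟩ ?_ rfl
      · rw [← hN]
        simp only [Pi.add_apply, Pi.single_eq_same]
        have e1 : (Pi.single (1 : Fin 3) (1 : ℤ) : Fin 3 → ℤ) 0 = 0 := by simp
        have e2 : (Pi.single (1 : Fin 3) (1 : ℤ) : Fin 3 → ℤ) 2 = 0 := by simp
        rw [e1, e2]
        have := hv 1
        omega
      · intro i
        simp only [Pi.add_apply]
        have := hv i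
        have : (0:ℤ) ≤ (Pi.single (1 : Fin 3) (1 : ℤ) : Fin 3 → ℤ) i := by
          fin_cases i <;> simp
        omega
    by_cases h2 : v.1 - Pi.single 2 1 ∈ region I α
    · have hadj : (regGraph I α).Adj v ⟨_, h2⟩ := by
        rw [regGraph_adj_iff]; exact ⟨2, Or.inr (by show v.1 = v.1 - Pi.single 2 1 + Pi.single 2 1; abel)⟩
      rw [hg.1 _ _ hadj]
      by_cases hz : v.1 2 = 0
      · apply hg.2
        refine ⟨2, ?_⟩
        simp [hz]
      · refine ih _ ?_ ⟨_, h2⟩ ?_ rfl
        · rw [← hN]
          simp only [Pi.sub_apply, Pi.single_eq_same]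
          have e1 : (Pi.single (2 : Fin 3) (1 : ℤ) : Fin 3 → ℤ) 0 = 0 := by simp
          have e2 : (Pi.single (2 : Fin 3) (1 : ℤ) : Fin 3 → ℤ) 1 = 0 := by simp
          rw [e1, e2]
          have := hv 2
          omega
        · intro i
          have := hv i
          have h2' := hv 2
          fin_cases i
          · simpa using this
          · simpa using this
          · simp only [Pi.sub_apply, Pi.single_eq_same]
            show 0 ≤ v.1 2 - 1
            omega
    · exact hvan v ⟨hv, h0, h1, h2⟩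
  funext v
  by_cases hv : ∀ i, 0 ≤ v.1 i
  · exact key _ v hv rfl
  · push_neg at hv
    exact hg.2 v hv

include hI in
lemma finite_locmax [Module.Finite k (MvPolynomial (Fin 3) k ⧸ I)] :
    Finite {v : ↥(region I α) // IsLocMax α v} := by
  haveI := finite_nonneg_pts (k := k) hI α
  exact Finite.of_injective
    (fun v : {v : ↥(region I α) // IsLocMax α v} =>
      (⟨v.1, v.2.1⟩ : {v : ↥(region I α) // ∀ i, 0 ≤ v.1 i}))
    (fun v w h => Subtype.ext (congrArg (fun x : {v : ↥(region I α) // ∀ i, 0 ≤ v.1 i} => x.1) h))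

/-- evaluation at the local maxima -/
def evalLoc : W I α →ₗ[k] ({v : ↥(region I α) // IsLocMax α v} → k) :=
  LinearMap.pi fun v => (LinearMap.proj v.1).comp (W I α).subtype

include hI in
lemma evalLoc_injective [Module.Finite k (MvPolynomial (Fin 3) k ⧸ I)] :
    Function.Injective (evalLoc (k := k) (I := I) α) := by
  refine (injective_iff_map_eq_zero _).2 ?_
  intro g hg0
  apply Subtype.ext
  refine W_eq_zero_of_locmax hI α g.2 ?_
  intro v hv
  exact congrFun hg0 ⟨v, hv⟩

include hI in
theorem finrank_tPiece_le_card_locmax [Module.Finite k (MvPolynomial (Fin 3) k ⧸ I)] :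
    Module.finrank k ↥(tPiece I α) ≤ Nat.card {v : ↥(region I α) // IsLocMax α v} := by
  haveI := finite_locmax (k := k) hI α
  haveI : Fintype {v : ↥(region I α) // IsLocMax α v} := Fintype.ofFinite _
  rw [(tPieceEquivW hI α).finrank_eq, Nat.card_eq_fintype_card, ← Module.finrank_fintype_fun_eq_card (R := k)]
  exact LinearMap.finrank_le_finrank_of_injective (evalLoc_injective hI α)

include hI in
theorem finite_tPiece_three [Module.Finite k (MvPolynomial (Fin 3) k ⧸ I)] :
    Module.Finite k ↥(tPiece I α) := by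
  haveI := finite_locmax (k := k) hI α
  haveI : Fintype {v : ↥(region I α) // IsLocMax α v} := Fintype.ofFinite _
  haveI : Module.Finite k ↥(W I α) := Module.Finite.of_injective _ (evalLoc_injective hI α)
  exact Module.Finite.equiv (tPieceEquivW hI α).symm

include hI in
theorem tPiece_eq_bot_of_no_locmax [Module.Finite k (MvPolynomial (Fin 3) k ⧸ I)]
    (h : ∀ v : ↥(region I α), ¬ IsLocMax α v) : tPiece I α = ⊥ := by
  apply tPiece_eq_bot_of_W hI
  intro g hg
  exact W_eq_zero_of_locmax hI α hg (fun v hv => absurd hv (h v))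

end locmax

end Groth.Agent.Lib.Helper6.Hilbpn
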