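import Mathlib
import Groth.Prelude.Def_W4c1hilbpnTgt
import Groth.Agent.Lib.Helper6.Hilbpn.LocMax
import Groth.Agent.Lib.Helper6.Hilbpn.FinrankSup

/-! Upper bound for the pieces of `T(I)` of degree `(a1, a2, c)`, `c < 0`. -/

open scoped Classical
set_option linter.unusedSectionVars false
set_option autoImplicit false
noncomputable section

namespace Groth.Agent.Lib.Helper6.Hilbpn
open MvPolynomial W4c1hilbpn

variable {k : Type*} [Field k]

section region3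
variable {I : Ideal (MvPolynomial (Fin 3) k)} {α v : Fin 3 → ℤ}

lemma mem_region3 : v ∈ region I α ↔
    (α 0 ≤ v 0 ∧ α 1 ≤ v 1 ∧ α 2 ≤ v 2) ∧
    e3 (v 0 - α 0).toNat (v 1 - α 1).toNat (v 2 - α 2).toNat ∈ exps I ∧
    ¬ ((0 ≤ v 0 ∧ 0 ≤ v 1 ∧ 0 ≤ v 2) ∧ e3 (v 0).toNat (v 1).toNat (v 2).toNat ∈ exps I) := by
  rw [mem_region_iff', forall_fin3, forall_fin3, src_eq_e3, toNatVec_eq_e3]

end region3

section ppn
variable {I : Ideal (MvPolynomial (Fin 3) k)} (hI : IsMonomial I) (a1 a2 : ℕ)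

/-- the multidegree `(a1, a2, -c)` -/
def alphaP (c : ℕ) : Fin 3 → ℤ := ![(a1 : ℤ), (a2 : ℤ), -(c : ℤ)]

@[simp] lemma alphaP_zero (c : ℕ) : alphaP a1 a2 c 0 = a1 := rfl
@[simp] lemma alphaP_one (c : ℕ) : alphaP a1 a2 c 1 = a2 := rfl
@[simp] lemma alphaP_two (c : ℕ) : alphaP a1 a2 c 2 = -(c : ℤ) := rfl

lemma alphaP_injective : Function.Injective (alphaP a1 a2) := by
  intro c c' h
  have := congrFun h 2
  simp only [alphaP_two] at this
  omega

include hI in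
lemma locmax_facts [Module.Finite k (MvPolynomial (Fin 3) k ⧸ I)] {c : ℕ} (hc : 1 ≤ c)
    (v : ↥(region I (alphaP a1 a2 c))) (hv : IsLocMax (alphaP a1 a2 c) v) :
    a1 ≤ (v.1 0).toNat ∧ a2 ≤ (v.1 1).toNat ∧
      (v.1 2).toNat < stairZ I (v.1 0).toNat (v.1 1).toNat ∧
      stairZ I ((v.1 0).toNat + 1) (v.1 1).toNat ≤ (v.1 2).toNat ∧
      stairZ I (v.1 0).toNat ((v.1 1).toNat + 1) ≤ (v.1 2).toNat ∧
      (v.1 2).toNat + c = stairZ I ((v.1 0).toNat - a1) ((v.1 1).toNat - a2) := by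
  obtain ⟨hnn, h0, h1, h2⟩ := hv
  have n0 := hnn 0
  have n1 := hnn 1
  have n2 := hnn 2
  obtain ⟨⟨g0, g1, g2⟩, gsrc, gnot⟩ := mem_region3.1 v.2
  simp only [alphaP_zero, alphaP_one, alphaP_two] at g0 g1 g2 gsrc
  have hstd : e3 (v.1 0).toNat (v.1 1).toNat (v.1 2).toNat ∉ exps I := fun h => gnot ⟨⟨n0, n1, n2⟩, h⟩
  have hsrc_eq : e3 (v.1 0 - a1).toNat (v.1 1 - a2).toNat (v.1 2 - -(c:ℤ)).toNat =
      e3 ((v.1 0).toNat - a1) ((v.1 1).toNat - a2) ((v.1 2).toNat + c) := by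
    apply e3_ext <;> simp only [e3_zero, e3_one, e3_two] <;> omega
  rw [hsrc_eq] at gsrc
  have hlt := (not_mem_iff_lt_stairZ hI _ _ _).1 hstd
  have hge : stairZ I ((v.1 0).toNat - a1) ((v.1 1).toNat - a2) ≤ (v.1 2).toNat + c := by
    by_contra hcon
    exact (not_mem_iff_lt_stairZ hI _ _ _).2 (not_le.1 hcon) gsrc
  refine ⟨by omega, by omega, hlt, ?_, ?_, ?_⟩
  · -- v + e0 not in region
    by_contra hcon
    apply h0
    rw [mem_region3]
    simp only [alphaP_zero, alphaP_one, alphaP_two, Pi.add_apply, Pi.single_eq_same]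
    have e1 : (Pi.single (0 : Fin 3) (1 : ℤ) : Fin 3 → ℤ) 1 = 0 := by simp
    have e2 : (Pi.single (0 : Fin 3) (1 : ℤ) : Fin 3 → ℤ) 2 = 0 := by simp
    rw [e1, e2]
    refine ⟨⟨by omega, by omega, by omega⟩, ?_, ?_⟩
    · refine exps_of_le gsrc (e3_le_e3 ?_ ?_ ?_) <;> omega
    · rintro ⟨_, hmem⟩
      have : e3 (v.1 0 + 1).toNat (v.1 1 + 0).toNat (v.1 2 + 0).toNat =
          e3 ((v.1 0).toNat + 1) (v.1 1).toNat (v.1 2).toNat := by
        apply e3_ext <;> simp only [e3_zero, e3_one, e3_two] <;> omega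
      rw [this] at hmem
      exact (not_mem_iff_lt_stairZ hI _ _ _).2 (not_le.1 hcon) hmem
  · by_contra hcon
    apply h1
    rw [mem_region3]
    simp only [alphaP_zero, alphaP_one, alphaP_two, Pi.add_apply, Pi.single_eq_same]
    have e1 : (Pi.single (1 : Fin 3) (1 : ℤ) : Fin 3 → ℤ) 0 = 0 := by simp
    have e2 : (Pi.single (1 : Fin 3) (1 : ℤ) : Fin 3 → ℤ) 2 = 0 := by simp
    rw [e1, e2]
    refine ⟨⟨by omega, by omega, by omega⟩, ?_, ?_⟩
    · refine exps_of_le gsrc (e3_le_e3 ?_ ?_ ?_) <;> omega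
    · rintro ⟨_, hmem⟩
      have : e3 (v.1 0 + 0).toNat (v.1 1 + 1).toNat (v.1 2 + 0).toNat =
          e3 (v.1 0).toNat ((v.1 1).toNat + 1) (v.1 2).toNat := by
        apply e3_ext <;> simp only [e3_zero, e3_one, e3_two] <;> omega
      rw [this] at hmem
      exact (not_mem_iff_lt_stairZ hI _ _ _).2 (not_le.1 hcon) hmem
  · -- v - e2 not in region
    by_contra hcon
    have hlt2 : (v.1 2).toNat + c - 1 < stairZ I ((v.1 0).toNat - a1) ((v.1 1).toNat - a2) → False := by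
      intro hlt2
      omega
    have hmem2 : e3 ((v.1 0).toNat - a1) ((v.1 1).toNat - a2) ((v.1 2).toNat + c - 1) ∈ exps I := by
      by_contra hnot
      exact hlt2 ((not_mem_iff_lt_stairZ hI _ _ _).1 hnot)
    apply h2
    rw [mem_region3]
    simp only [alphaP_zero, alphaP_one, alphaP_two, Pi.sub_apply, Pi.single_eq_same]
    have e1 : (Pi.single (2 : Fin 3) (1 : ℤ) : Fin 3 → ℤ) 0 = 0 := by simp
    have e2 : (Pi.single (2 : Fin 3) (1 : ℤ) : Fin 3 → ℤ) 1 = 0 := by simp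
    rw [e1, e2]
    refine ⟨⟨by omega, by omega, by omega⟩, ?_, ?_⟩
    · refine exps_of_le hmem2 (e3_le_e3 ?_ ?_ ?_) <;> omega
    · rintro ⟨⟨_, _, hz⟩, hmem⟩
      refine hstd (exps_of_le hmem (e3_le_e3 ?_ ?_ ?_)) <;> omega

/-- the index set of exposed points -/
def Eset (B0 B1 : ℕ) : Finset (Σ _ : ℕ × ℕ, ℕ) :=
  ((Finset.range B0 ×ˢ Finset.range B1).filter fun p => a1 ≤ p.1 ∧ a2 ≤ p.2).sigma fun p =>
    Finset.Ico (max (stairZ I (p.1 + 1) p.2) (stairZ I p.1 (p.2 + 1))) (stairZ I p.1 p.2)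

/-- the exposed points matched with `c` -/
def Lset (B0 B1 c : ℕ) : Finset (Σ _ : ℕ × ℕ, ℕ) :=
  (Eset (I := I) a1 a2 B0 B1).filter fun s => s.2 + c = stairZ I (s.1.1 - a1) (s.1.2 - a2)

include hI in
lemma card_locmax_le [Module.Finite k (MvPolynomial (Fin 3) k ⧸ I)] {B0 B1 : ℕ}
    (hB0 : ∀ w : Fin 3 →₀ ℕ, w ∉ exps I → w 0 < B0) (hB1 : ∀ w : Fin 3 →₀ ℕ, w ∉ exps I → w 1 < B1)
    {c : ℕ} (hc : 1 ≤ c) :
    Nat.card {v : ↥(region I (alphaP a1 a2 c)) // IsLocMax (alphaP a1 a2 c) v} ≤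
      (Lset (I := I) a1 a2 B0 B1 c).card := by
  haveI := finite_locmax (k := k) hI (alphaP a1 a2 c)
  haveI : Fintype {v : ↥(region I (alphaP a1 a2 c)) // IsLocMax (alphaP a1 a2 c) v} := Fintype.ofFinite _
  rw [Nat.card_eq_fintype_card, ← Fintype.card_coe]
  let f : {v : ↥(region I (alphaP a1 a2 c)) // IsLocMax (alphaP a1 a2 c) v} →
      ↥(Lset (I := I) a1 a2 B0 B1 c) := fun v =>
    ⟨⟨((v.1.1 0).toNat, (v.1.1 1).toNat), (v.1.1 2).toNat⟩, by
      obtain ⟨f1, f2, f3, f4, f5, f6⟩ := locmax_facts hI a1 a2 hc v.1 v.2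
      have hstd := (not_mem_iff_lt_stairZ hI _ _ _).2 f3
      have b0 := hB0 _ hstd
      have b1 := hB1 _ hstd
      simp only [e3_zero, e3_one] at b0 b1
      unfold Lset Eset
      simp only [Finset.mem_filter, Finset.mem_sigma, Finset.mem_product, Finset.mem_range,
        Finset.mem_Ico, max_le_iff]
      exact ⟨⟨⟨⟨b0, b1⟩, f1, f2⟩, ⟨f4, f5⟩, f3⟩, f6⟩⟩
  refine Fintype.card_le_of_injective f ?_
  intro v w h
  have h' := congrArg Subtype.val h
  simp only [f] at h'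
  have hx : (v.1.1 0).toNat = (w.1.1 0).toNat := by
    have := congrArg (fun s : Σ _ : ℕ × ℕ, ℕ => s.1.1) h'; exact this
  have hy : (v.1.1 1).toNat = (w.1.1 1).toNat := by
    have := congrArg (fun s : Σ _ : ℕ × ℕ, ℕ => s.1.2) h'; exact this
  have hz : (v.1.1 2).toNat = (w.1.1 2).toNat := by
    have := congrArg (fun s : Σ _ : ℕ × ℕ, ℕ => s.2) h'; exact this
  apply Subtype.ext
  apply Subtype.ext
  funext i
  have hv := v.2.1
  have hw := w.2.1
  fin_cases i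
  · have := hv 0; have := hw 0; show v.1.1 0 = w.1.1 0; omega
  · have := hv 1; have := hw 1; show v.1.1 1 = w.1.1 1; omega
  · have := hv 2; have := hw 2; show v.1.1 2 = w.1.1 2; omega

lemma sum_card_Lset_le (B0 B1 H : ℕ) :
    ∑ c ∈ Finset.Icc 1 H, (Lset (I := I) a1 a2 B0 B1 c).card ≤ (Eset (I := I) a1 a2 B0 B1).card := by
  rw [← Finset.card_biUnion]
  · apply Finset.card_le_card
    intro s hs
    obtain ⟨c, _, hc⟩ := Finset.mem_biUnion.1 hs
    exact (Finset.mem_filter.1 hc).1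
  · intro c _ c' _ hcc'
    rw [Function.onFun, Finset.disjoint_left]
    intro s h1 h2
    have e1 := (Finset.mem_filter.1 h1).2
    have e2 := (Finset.mem_filter.1 h2).2
    apply hcc'
    omega

include hI in
lemma card_Eset_eq_finsum [Module.Finite k (MvPolynomial (Fin 3) k ⧸ I)] {B0 B1 : ℕ}
    (hB0 : ∀ w : Fin 3 →₀ ℕ, w ∉ exps I → w 0 < B0) (hB1 : ∀ w : Fin 3 →₀ ℕ, w ∉ exps I → w 1 < B1) :
    (Eset (I := I) a1 a2 B0 B1).card =
      ∑ᶠ p : ℕ × ℕ, (if a1 ≤ p.1 ∧ a2 ≤ p.2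
        then stairZ I p.1 p.2 - max (stairZ I (p.1 + 1) p.2) (stairZ I p.1 (p.2 + 1)) else 0) := by
  unfold Eset
  rw [Finset.card_sigma]
  simp only [Nat.card_Ico]
  rw [Finset.sum_filter]
  symm
  apply finsum_eq_sum_of_support_subset
  intro p hp
  rw [Function.mem_support] at hp
  rw [Finset.coe_product, Set.mem_prod, Finset.mem_coe, Finset.mem_coe, Finset.mem_range, Finset.mem_range]
  by_contra hcon
  apply hp
  have : B0 ≤ p.1 ∨ B1 ≤ p.2 := by
    by_contra h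
    push_neg at h
    exact hcon ⟨h.1, h.2⟩
  rw [stairZ_eq_zero_of_bound hI hB0 hB1 p.1 p.2 this]
  split_ifs <;> simp

include hI in
/-- The bound on the dimension of the pieces of multidegree `(a1, a2, c)`, `c < 0`. -/
theorem finrank_iSup_ppn_le [Module.Finite k (MvPolynomial (Fin 3) k ⧸ I)] :
    Module.finrank k ↥(⨆ α : {α : Fin 3 → ℤ // α 0 = (a1 : ℤ) ∧ α 1 = (a2 : ℤ) ∧ α 2 < 0}, tPiece I α.1) ≤
      ∑ᶠ p : ℕ × ℕ, (if a1 ≤ p.1 ∧ a2 ≤ p.2
        then stairZ I p.1 p.2 - max (stairZ I (p.1 + 1) p.2) (stairZ I p.1 (p.2 + 1)) else 0) := by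
  obtain ⟨B0, hB0⟩ := exists_bound hI (0 : Fin 3)
  obtain ⟨B1, hB1⟩ := exists_bound hI (1 : Fin 3)
  obtain ⟨H, hH⟩ := exists_bound hI (2 : Fin 3)
  have hbot : ∀ α : Fin 3 → ℤ, (α 0 = (a1 : ℤ) ∧ α 1 = (a2 : ℤ) ∧ α 2 < 0) →
      α ∉ (Finset.Icc 1 H).image (alphaP a1 a2) → tPiece I α = ⊥ := by
    intro α hP hF
    have hα : α = alphaP a1 a2 (-α 2).toNat := by
      funext i
      fin_cases i
      · exact hP.1
      · exact hP.2.1
      · show α 2 = -(((-α 2).toNat : ℕ) : ℤ)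
        have := hP.2.2
        omega
    have hc1 : 1 ≤ (-α 2).toNat := by have := hP.2.2; omega
    have hcH : H < (-α 2).toNat := by
      by_contra hcon
      apply hF
      rw [Finset.mem_image]
      exact ⟨(-α 2).toNat, Finset.mem_Icc.2 ⟨hc1, not_lt.1 hcon⟩, hα.symm⟩
    rw [hα]
    apply tPiece_eq_bot_of_no_locmax hI
    intro v hv
    obtain ⟨_, _, _, _, _, f6⟩ := locmax_facts hI a1 a2 hc1 v hv
    have := stairZ_le_of_bound hI hH ((v.1 0).toNat - a1) ((v.1 1).toNat - a2)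
    omega
  rw [finrank_iSup_subtype (fun α => tPiece I α) (iSupIndep_tPiece hI) _
    ((Finset.Icc 1 H).image (alphaP a1 a2)) ?_ hbot (fun α _ => finite_tPiece_three hI α)]
  · rw [Finset.sum_image (fun c _ c' _ h => alphaP_injective a1 a2 h)]
    calc ∑ c ∈ Finset.Icc 1 H, Module.finrank k ↥(tPiece I (alphaP a1 a2 c))
        ≤ ∑ c ∈ Finset.Icc 1 H, (Lset (I := I) a1 a2 B0 B1 c).card := by
          refine Finset.sum_le_sum fun c hc => ?_
          exact (finrank_tPiece_le_card_locmax hI _).trans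
            (card_locmax_le hI a1 a2 hB0 hB1 (Finset.mem_Icc.1 hc).1)
      _ ≤ (Eset (I := I) a1 a2 B0 B1).card := sum_card_Lset_le a1 a2 B0 B1 H
      _ = _ := card_Eset_eq_finsum hI a1 a2 hB0 hB1
  · intro α hα
    obtain ⟨c, hc, rfl⟩ := Finset.mem_image.1 hα
    refine ⟨rfl, rfl, ?_⟩
    simp only [alphaP_two]
    have := (Finset.mem_Icc.1 hc).1
    omega

end ppn

end Groth.Agent.Lib.Helper6.Hilbpn
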