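import Mathlib
import Groth.Prelude.Def_W4c1hilbpnTgt
import Groth.Agent.Lib.Helper6.Hilbpn.Kz.QBasis

/-! Permuting the variables: an injective comparison `T(I) → T(I^e)` compatible with the grading. -/

open scoped Classical
set_option linter.unusedSectionVars false
set_option autoImplicit false
noncomputable section

namespace Groth.Agent.Lib.Helper6.Hilbpn
open MvPolynomial W4c1hilbpn

variable {σ : Type*} {k : Type*} [Field k] [Fintype σ]
variable (e : σ ≃ σ) (I : Ideal (MvPolynomial σ k))

/-- the ideal obtained by permuting the variables -/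
def permI : Ideal (MvPolynomial σ k) := I.comap (rename e.symm : MvPolynomial σ k →ₐ[k] MvPolynomial σ k)

variable {e I}

lemma mem_permI {p : MvPolynomial σ k} : p ∈ permI e I ↔ rename e.symm p ∈ I := Iff.rfl

lemma rename_symm_rename (p : MvPolynomial σ k) : rename e.symm (rename e p) = p := by
  rw [rename_rename, Equiv.symm_comp_self, rename_id_apply]

lemma rename_rename_symm (p : MvPolynomial σ k) : rename e (rename e.symm p) = p := by
  rw [rename_rename, Equiv.self_comp_symm, rename_id_apply]

lemma mem_exps_permI {β : σ →₀ ℕ} : β ∈ exps (permI e I) ↔ β.mapDomain e.symm ∈ exps I := by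
  show monomial β (1:k) ∈ permI e I ↔ _
  rw [mem_permI, rename_monomial]
  rfl

lemma isMonomial_permI (hI : IsMonomial I) : IsMonomial (permI e I) := by
  intro p hp β hβ
  show β ∈ exps (permI e I)
  rw [mem_exps_permI]
  apply hI _ (mem_permI.1 hp)
  rw [support_rename_of_injective e.symm.injective]
  exact Finset.mem_image_of_mem _ hβ

variable (e I)

lemma le_comap_permI : I ≤ (permI e I).comap (rename e : MvPolynomial σ k →ₐ[k] MvPolynomial σ k) := by
  intro p hp
  show rename e p ∈ permI e I
  rw [mem_permI, rename_symm_rename]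
  exact hp

/-- the induced map on quotients -/
def qmap : (MvPolynomial σ k ⧸ I) →ₐ[k] (MvPolynomial σ k ⧸ permI e I) :=
  Ideal.quotientMapₐ (permI e I) (rename e) (le_comap_permI e I)

lemma qmap_mk (p : MvPolynomial σ k) :
    qmap e I (Ideal.Quotient.mk I p) = Ideal.Quotient.mk (permI e I) (rename e p) := rfl

lemma qmap_injective : Function.Injective (qmap e I) := by
  refine (injective_iff_map_eq_zero _).2 fun a ha => ?_
  obtain ⟨p, rfl⟩ := Ideal.Quotient.mk_surjective a
  rw [qmap_mk, Ideal.Quotient.eq_zero_iff_mem, mem_permI, rename_symm_rename] at ha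
  exact Ideal.Quotient.eq_zero_iff_mem.2 ha

lemma qmap_surjective : Function.Surjective (qmap e I) := by
  intro a
  obtain ⟨p, rfl⟩ := Ideal.Quotient.mk_surjective a
  exact ⟨Ideal.Quotient.mk I (rename e.symm p), by rw [qmap_mk, rename_rename_symm]⟩

lemma qmap_smul (s : MvPolynomial σ k) (q : MvPolynomial σ k ⧸ I) :
    qmap e I (s • q) = rename e s • qmap e I q := by
  rw [smul_eq_mk_mul, map_mul, qmap_mk, ← smul_eq_mk_mul]

lemma finite_quot_permI [Module.Finite k (MvPolynomial σ k ⧸ I)] :
    Module.Finite k (MvPolynomial σ k ⧸ permI e I) :=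
  Module.Finite.of_surjective (qmap e I).toLinearMap (qmap_surjective e I)

/-- the comparison map `T(I) → T(I^e)` -/
def permT : Tgt I →ₗ[k] Tgt (permI e I) where
  toFun φ :=
    { toFun := fun y => qmap e I (φ ⟨rename e.symm y.1, y.2⟩)
      map_add' := fun y y' => by
        have : (⟨rename e.symm (y + y').1, (y + y').2⟩ : I) =
            ⟨rename e.symm y.1, y.2⟩ + ⟨rename e.symm y'.1, y'.2⟩ := by
          apply Subtype.ext
          show rename e.symm (y.1 + y'.1) = _
          rw [map_add]; rfl
        rw [this, map_add, map_add]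
      map_smul' := fun s y => by
        have : (⟨rename e.symm (s • y).1, (s • y).2⟩ : I) =
            rename e.symm s • ⟨rename e.symm y.1, y.2⟩ := by
          apply Subtype.ext
          show rename e.symm (s * y.1) = _
          rw [map_mul]; rfl
        rw [this, map_smul, qmap_smul, rename_rename_symm]
        rfl }
  map_add' φ ψ := by
    ext y
    show qmap e I ((φ + ψ) _) = qmap e I (φ _) + qmap e I (ψ _)
    rw [LinearMap.add_apply, map_add]
  map_smul' c φ := by
    ext y
    show qmap e I ((c • φ) _) = c • qmap e I (φ _)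
    rw [LinearMap.smul_apply, map_smul]

lemma permT_apply (φ : Tgt I) (y : permI e I) :
    permT e I φ y = qmap e I (φ ⟨rename e.symm y.1, y.2⟩) := rfl

lemma permT_injective : Function.Injective (permT e I) := by
  refine (injective_iff_map_eq_zero _).2 fun φ h => ?_
  ext x
  have hx : rename e x.1 ∈ permI e I := le_comap_permI e I x.2
  have h1 := LinearMap.congr_fun h ⟨rename e x.1, hx⟩
  rw [permT_apply, LinearMap.zero_apply] at h1
  have h2 := qmap_injective e I (h1.trans (map_zero _).symm)
  have h3 : (⟨rename e.symm (rename e x.1), hx⟩ : I) = x := Subtype.ext (rename_symm_rename _)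
  rw [h3] at h2
  exact h2

lemma mapDomain_shift (β' : σ →₀ ℕ) (α : σ → ℤ) :
    (shift (β'.mapDomain e.symm) α).mapDomain e = shift β' (fun i => α (e.symm i)) := by
  ext i
  rw [Finsupp.mapDomain_equiv_apply, shift_apply, shift_apply, Finsupp.mapDomain_equiv_apply,
    Equiv.symm_symm, Equiv.apply_symm_apply]

lemma permT_mem_tPiece {α : σ → ℤ} {φ : Tgt I} (hφ : φ ∈ tPiece I α) :
    permT e I φ ∈ tPiece (permI e I) (fun i => α (e.symm i)) := by
  intro β' hβ'
  have hβ : β'.mapDomain e.symm ∈ exps I := mem_exps_permI.1 hβ'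
  have hval : permT e I φ ⟨monomial β' 1, hβ'⟩ = qmap e I (φ (monI I (β'.mapDomain e.symm) hβ)) := by
    rw [permT_apply]
    congr 2
    apply Subtype.ext
    show rename e.symm (monomial β' (1:k)) = monomial (β'.mapDomain e.symm) 1
    rw [rename_monomial]
  have hnniff : nn α (β'.mapDomain e.symm) ↔ ∀ i, 0 ≤ (β' i : ℤ) + α (e.symm i) := by
    constructor
    · intro h i
      have := h (e.symm i)
      rw [Finsupp.mapDomain_equiv_apply, Equiv.symm_symm, Equiv.apply_symm_apply] at this
      exact this
    · intro h j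
      have := h (e j)
      rw [Equiv.symm_apply_apply] at this
      rw [Finsupp.mapDomain_equiv_apply, Equiv.symm_symm]
      exact this
  refine ⟨fun h => ?_, fun h => ?_⟩
  · rw [hval]
    obtain ⟨c, hc⟩ := tPiece_apply_of_nn hφ hβ (hnniff.2 h)
    rw [hc, map_smul, qmap_mk, rename_monomial, mapDomain_shift]
    exact Submodule.smul_mem _ _ (Submodule.mem_span_singleton_self _)
  · rw [hval]
    have hnot : ¬ nn α (β'.mapDomain e.symm) := by
      intro hnn
      obtain ⟨i, hi⟩ := h
      exact absurd (hnniff.1 hnn i) (not_le.2 hi)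
    rw [tPiece_apply_of_not_nn hφ hβ hnot, map_zero]

/-- transport of dimension bounds along a permutation of the variables -/
theorem finrank_iSup_perm_le (hI : IsMonomial I) [Module.Finite k (MvPolynomial σ k ⧸ I)]
    (P : (σ → ℤ) → Prop) :
    Module.finrank k ↥(⨆ α : {α : σ → ℤ // P α}, tPiece I α.1) ≤
      Module.finrank k ↥(⨆ α : {α : σ → ℤ // P (fun i => α (e i))}, tPiece (permI e I) α.1) := by
  haveI := finite_quot_permI e I
  haveI := finite_Tgt (k := k) (isMonomial_permI (e := e) hI)
  set N := ⨆ α : {α : σ → ℤ // P α}, tPiece I α.1 with hN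
  have h1 : Module.finrank k ↥N = Module.finrank k ↥(N.map (permT e I)) :=
    (Submodule.equivMapOfInjective (permT e I) (permT_injective e I) N).finrank_eq
  rw [h1]
  apply Submodule.finrank_mono
  rw [hN, Submodule.map_iSup]
  refine iSup_le fun α => ?_
  have hP : P (fun i => (fun j => α.1 (e.symm j)) (e i)) := by
    have : (fun i => (fun j => α.1 (e.symm j)) (e i)) = α.1 := by
      funext i; simp
    rw [this]; exact α.2
  refine le_trans ?_ (le_iSup (fun α' : {α : σ → ℤ // P (fun i => α (e i))} =>
    tPiece (permI e I) α'.1) ⟨fun j => α.1 (e.symm j), hP⟩)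
  rintro _ ⟨φ, hφ, rfl⟩
  exact permT_mem_tPiece e I hφ

end Groth.Agent.Lib.Helper6.Hilbpn
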