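import Mathlib
import Groth.Prelude.Def_W4c1hilbpnTgt
import Groth.Agent.Lib.Helper6.Hilbpn.Vanish

/-! Graded pieces of `T(m^r)`. -/

open scoped Classical
set_option linter.unusedSectionVars false
set_option autoImplicit false
noncomputable section

namespace Groth.Agent.Lib.Helper6.Hilbpn
open MvPolynomial W4c1hilbpn

variable {σ : Type*} {k : Type*} [Field k] [Fintype σ]

section powvars
variable (r : ℕ)

/-- the power of the irrelevant ideal -/
abbrev mpow (σ : Type*) (k : Type*) [Field k] (r : ℕ) : Ideal (MvPolynomial σ k) :=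
  (Ideal.span (Set.range (MvPolynomial.X : σ → MvPolynomial σ k))) ^ r

lemma mem_exps_mpow {β : σ →₀ ℕ} : β ∈ exps (mpow σ k r) ↔ r ≤ β.degree := by
  show monomial β (1:k) ∈ idealOfVars σ k ^ r ↔ _
  rw [mem_pow_idealOfVars_iff]
  constructor
  · intro h
    apply h β
    rw [mem_support_iff, coeff_monomial, if_pos rfl]
    exact one_ne_zero
  · intro h x hx
    rw [mem_support_iff, coeff_monomial] at hx
    by_cases hxb : β = x
    · rw [← hxb]; exact h
    · rw [if_neg hxb] at hx; exact absurd rfl hx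

lemma isMonomial_mpow : IsMonomial (mpow σ k r) := by
  intro p hp β hβ
  have h1 : p ∈ idealOfVars σ k ^ r := hp
  rw [mem_pow_idealOfVars_iff] at h1
  exact (mem_exps_mpow r).2 (h1 β hβ)

lemma degree_toNatVec {v : σ → ℤ} (hv : ∀ i, 0 ≤ v i) :
    ((toNatVec v).degree : ℤ) = ∑ i, v i := by
  rw [Finsupp.degree_eq_sum]
  push_cast
  refine Finset.sum_congr rfl fun i _ => ?_
  simp only [toNatVec_apply]
  have := hv i
  omega

lemma sum_vec (α : σ → ℤ) (β : σ →₀ ℕ) : ∑ i, vec α β i = (β.degree : ℤ) + ∑ i, α i := by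
  rw [Finsupp.degree_eq_sum]
  push_cast
  rw [← Finset.sum_add_distrib]
  rfl

variable {r} {α : σ → ℤ}

lemma mem_region_mpow {v : σ → ℤ} : v ∈ region (mpow σ k r) α ↔
    (∀ i, α i ≤ v i) ∧ (r : ℤ) + ∑ i, α i ≤ ∑ i, v i ∧ ¬ ((∀ i, 0 ≤ v i) ∧ (r : ℤ) ≤ ∑ i, v i) := by
  rw [mem_region]
  constructor
  · rintro ⟨⟨β, hβ, rfl⟩, hnot⟩
    rw [mem_exps_mpow] at hβ
    refine ⟨fun i => ?_, ?_, fun h => hnot ⟨h.1, ?_⟩⟩
    · simp only [vec_apply]; omega
    · rw [sum_vec]
      have : (r:ℤ) ≤ (β.degree : ℤ) := by exact_mod_cast hβ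
      linarith
    · rw [mem_exps_mpow]
      have := degree_toNatVec h.1
      have h2 := h.2
      rw [← this] at h2
      exact_mod_cast h2
  · rintro ⟨h1, h2, h3⟩
    have hvec : vec α (src α v) = v := by
      funext i
      simp only [vec_apply, src_apply]
      have := h1 i
      omega
    refine ⟨⟨src α v, ?_, hvec.symm⟩, fun h => h3 ⟨h.1, ?_⟩⟩
    · rw [mem_exps_mpow]
      have := sum_vec α (src α v)
      rw [hvec] at this
      have : (r:ℤ) ≤ ((src α v).degree : ℤ) := by linarith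
      exact_mod_cast this
    · have h4 := h.2
      rw [mem_exps_mpow] at h4
      rw [← degree_toNatVec h.1]
      exact_mod_cast h4

/-- if `Σ α ≥ 0` the piece vanishes -/
theorem tPiece_mpow_eq_bot_of_sum_nonneg (hα : 0 ≤ ∑ i, α i) :
    tPiece (mpow σ k r) α = ⊥ := by
  apply tPiece_eq_bot_of_W (isMonomial_mpow r)
  intro g hg
  funext v
  apply hg.2
  by_contra hcon
  push_neg at hcon
  obtain ⟨h1, h2, h3⟩ := mem_region_mpow.1 v.2
  exact h3 ⟨hcon, by linarith⟩

lemma sum_add_single (v : σ → ℤ) (i : σ) (c : ℤ) :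
    ∑ l, (v + Pi.single i c : σ → ℤ) l = ∑ l, v l + c := by
  simp only [Pi.add_apply, Finset.sum_add_distrib]
  congr 1
  rw [Finset.sum_eq_single i]
  · simp
  · intro j _ hj; simp [Pi.single_apply, hj]
  · intro h; exact absurd (Finset.mem_univ i) h

lemma sum_sub_single (v : σ → ℤ) (i : σ) (c : ℤ) :
    ∑ l, (v - Pi.single i c : σ → ℤ) l = ∑ l, v l - c := by
  have : v - Pi.single i c = v + Pi.single i (-c) := by
    rw [sub_eq_add_neg, ← Pi.single_neg]
  rw [this, sum_add_single]; ring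

lemma reach_neg_mpow (hα : ∑ i, α i ≤ -2) {i j : σ} (hij : i ≠ j) (hj : α j < 0) :
    ∀ N : ℕ, ∀ v : ↥(region (mpow σ k r) α), (∀ l, 0 ≤ v.1 l) → (v.1 j).toNat = N →
      ∃ w : ↥(region (mpow σ k r) α), (regGraph (mpow σ k r) α).Reachable v w ∧ ∃ l, w.1 l < 0 := by
  intro N
  induction N using Nat.strong_induction_on with
  | _ N ih =>
  intro v hv hN
  obtain ⟨h1, h2, h3⟩ := mem_region_mpow.1 v.2
  have hlt : ∑ l, v.1 l < r := by
    by_contra hcon
    exact h3 ⟨hv, not_lt.1 hcon⟩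
  -- a general step: from a nonneg point `u` with sum ≥ r + Σα + 1, move down in direction `j`
  have step : ∀ u : ↥(region (mpow σ k r) α), (∀ l, 0 ≤ u.1 l) → (u.1 j).toNat = N →
      (r:ℤ) + ∑ i, α i + 1 ≤ ∑ l, u.1 l →
      ∃ w : ↥(region (mpow σ k r) α), (regGraph (mpow σ k r) α).Reachable u w ∧ ∃ l, w.1 l < 0 := by
    intro u hu huN hsum
    obtain ⟨g1, g2, g3⟩ := mem_region_mpow.1 u.2
    have hult : ∑ l, u.1 l < r := by
      by_contra hcon
      exact g3 ⟨hu, not_lt.1 hcon⟩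
    have hmem : u.1 - Pi.single j 1 ∈ region (mpow σ k r) α := by
      rw [mem_region_mpow]
      refine ⟨fun l => ?_, ?_, fun h => ?_⟩
      · by_cases hl : l = j
        · subst hl; simp; have := hu l; omega
        · simp [Pi.single_apply, hl, g1 l]
      · rw [sum_sub_single]; linarith
      · have := h.2
        rw [sum_sub_single] at this
        linarith
    have hadj : (regGraph (mpow σ k r) α).Adj u ⟨_, hmem⟩ := by
      rw [regGraph_adj_iff]
      exact ⟨j, Or.inr (by simp)⟩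
    by_cases huj : u.1 j = 0
    · refine ⟨⟨_, hmem⟩, hadj.reachable, j, ?_⟩
      simp [huj]
    · have hu' : ∀ l, 0 ≤ (⟨_, hmem⟩ : ↥(region (mpow σ k r) α)).1 l := by
        intro l
        by_cases hl : l = j
        · subst hl; simp; have := hu l; omega
        · simp [Pi.single_apply, hl, hu l]
      have hlt' : ((u.1 - Pi.single j 1 : σ → ℤ) j).toNat < N := by
        rw [← huN]; simp; have := hu j; omega
      obtain ⟨w, hw1, hw2⟩ := ih _ hlt' ⟨_, hmem⟩ hu' rfl
      exact ⟨w, hadj.reachable.trans hw1, hw2⟩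
  by_cases hs : (r:ℤ) + ∑ i, α i + 1 ≤ ∑ l, v.1 l
  · exact step v hv hN hs
  · have hs' : ∑ l, v.1 l = (r:ℤ) + ∑ i, α i := by linarith
    have hmem : v.1 + Pi.single i 1 ∈ region (mpow σ k r) α := by
      rw [mem_region_mpow]
      refine ⟨fun l => ?_, ?_, fun h => ?_⟩
      · by_cases hl : l = i
        · subst hl; simp; have := h1 l; omega
        · simp [Pi.single_apply, hl, h1 l]
      · rw [sum_add_single]; linarith
      · have := h.2
        rw [sum_add_single] at this
        linarith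
    have hadj : (regGraph (mpow σ k r) α).Adj v ⟨_, hmem⟩ := by
      rw [regGraph_adj_iff]
      exact ⟨i, Or.inl rfl⟩
    have hu' : ∀ l, 0 ≤ (⟨_, hmem⟩ : ↥(region (mpow σ k r) α)).1 l := by
      intro l
      by_cases hl : l = i
      · subst hl; simp; have := hv l; omega
      · simp [Pi.single_apply, hl, hv l]
    have huN : ((⟨_, hmem⟩ : ↥(region (mpow σ k r) α)).1 j).toNat = N := by
      rw [← hN]; simp [Pi.single_apply, Ne.symm hij]
    have hsum : (r:ℤ) + ∑ i, α i + 1 ≤ ∑ l, (⟨_, hmem⟩ : ↥(region (mpow σ k r) α)).1 l := by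
      show _ ≤ ∑ l, (v.1 + Pi.single i 1 : σ → ℤ) l
      rw [sum_add_single]; linarith
    obtain ⟨w, hw1, hw2⟩ := step ⟨_, hmem⟩ hu' huN hsum
    exact ⟨w, hadj.reachable.trans hw1, hw2⟩

/-- if `Σ α ≤ -2` the piece vanishes (at least two variables) -/
theorem tPiece_mpow_eq_bot_of_sum_le [Nontrivial σ] (hα : ∑ i, α i ≤ -2) :
    tPiece (mpow σ k r) α = ⊥ := by
  apply tPiece_eq_bot_of_W (isMonomial_mpow r)
  intro g hg
  funext v
  show g v = 0
  by_cases hv : ∀ l, 0 ≤ v.1 l
  · have hj : ∃ j, α j < 0 := by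
      by_contra hcon
      push_neg at hcon
      have : 0 ≤ ∑ i, α i := Finset.sum_nonneg fun i _ => hcon i
      linarith
    obtain ⟨j, hj⟩ := hj
    obtain ⟨i, hij⟩ := exists_ne j
    obtain ⟨w, hw1, hw2⟩ := reach_neg_mpow hα hij hj _ v hv rfl
    rw [W_const_of_reachable hg hw1]
    exact hg.2 w hw2
  · push_neg at hv
    exact hg.2 v hv

end powvars

end Groth.Agent.Lib.Helper6.Hilbpn
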