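import Mathlib
import Groth.Prelude.Def_W4c1hilbpnTgt
import Groth.Agent.Lib.Helper6.Hilbpn.PowVars

/-! Graded pieces of `T(m^r)` of total degree `-1`. -/

open scoped Classical
set_option linter.unusedSectionVars false
set_option autoImplicit false
noncomputable section

namespace Groth.Agent.Lib.Helper6.Hilbpn
open MvPolynomial W4c1hilbpn

variable {σ : Type*} {k : Type*} [Field k] [Fintype σ]

section powvars2
variable {r : ℕ} {α : σ → ℤ}

/-- sum of the absolute values of the negative entries -/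
def negw (α : σ → ℤ) : ℕ := ∑ i, (-α i).toNat

lemma sum_toNat_eq (hα : ∑ i, α i = -1) : ∑ i, ((α i).toNat : ℤ) = (negw α : ℤ) - 1 := by
  have h1 : ∑ i, (((α i).toNat : ℤ) - ((-α i).toNat : ℤ)) = ∑ i, α i :=
    Finset.sum_congr rfl fun i _ => Int.toNat_sub_toNat_neg (α i)
  rw [Finset.sum_sub_distrib, hα] at h1
  unfold negw
  push_cast
  linarith

/-- the point of the region attached to `u` -/
def vOf (α : σ → ℤ) (u : σ →₀ ℕ) : σ → ℤ := fun i => (u i : ℤ) + ((α i).toNat : ℤ)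

/-- inverse of `vOf` -/
def uOf (α : σ → ℤ) (v : σ → ℤ) : σ →₀ ℕ :=
  Finsupp.equivFunOnFinite.symm fun i => (v i - ((α i).toNat : ℤ)).toNat

@[simp] lemma vOf_apply (u : σ →₀ ℕ) (i : σ) : vOf α u i = (u i : ℤ) + ((α i).toNat : ℤ) := rfl
@[simp] lemma uOf_apply (v : σ → ℤ) (i : σ) : uOf α v i = (v i - ((α i).toNat : ℤ)).toNat := rfl

lemma uOf_vOf (u : σ →₀ ℕ) : uOf α (vOf α u) = u := by
  ext i; simp

lemma sum_vOf (hα : ∑ i, α i = -1) (u : σ →₀ ℕ) :
    ∑ i, vOf α u i = (u.degree : ℤ) + (negw α : ℤ) - 1 := by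
  simp only [vOf_apply, Finset.sum_add_distrib, sum_toNat_eq hα]
  rw [Finsupp.degree_eq_sum]
  push_cast
  ring

lemma vOf_mem_region (hα : ∑ i, α i = -1) (hwr : negw α ≤ r) (u : σ →₀ ℕ)
    (hu : u.degree = r - negw α) : vOf α u ∈ region (mpow σ k r) α := by
  rw [mem_region_mpow]
  have hs := sum_vOf hα u
  have hu' : (u.degree : ℤ) = (r:ℤ) - (negw α : ℤ) := by
    rw [hu]; push_cast [Nat.cast_sub hwr]; ring
  refine ⟨fun i => ?_, ?_, fun h => ?_⟩
  · simp only [vOf_apply]; omega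
  · rw [hs, hα, hu']; linarith
  · have := h.2
    rw [hs, hu'] at this
    linarith

lemma nonneg_pt_mpow (hα : ∑ i, α i = -1) (v : ↥(region (mpow σ k r) α)) (hv : ∀ l, 0 ≤ v.1 l) :
    ∑ l, v.1 l = (r:ℤ) - 1 ∧ negw α ≤ r ∧ (uOf α v.1).degree = r - negw α ∧ vOf α (uOf α v.1) = v.1 := by
  obtain ⟨h1, h2, h3⟩ := mem_region_mpow.1 v.2
  have hlt : ∑ l, v.1 l < r := by
    by_contra hcon
    exact h3 ⟨hv, not_lt.1 hcon⟩
  have hsum : ∑ l, v.1 l = (r:ℤ) - 1 := by rw [hα] at h2; linarith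
  have hvo : vOf α (uOf α v.1) = v.1 := by
    funext i
    simp only [vOf_apply, uOf_apply]
    have := h1 i
    have := hv i
    omega
  have hs := sum_vOf hα (uOf α v.1)
  rw [hvo, hsum] at hs
  have hdeg : ((uOf α v.1).degree : ℤ) = (r:ℤ) - (negw α : ℤ) := by linarith
  have hwr : negw α ≤ r := by
    have : (0:ℤ) ≤ ((uOf α v.1).degree : ℤ) := by positivity
    have : (negw α : ℤ) ≤ r := by linarith
    exact_mod_cast this
  refine ⟨hsum, hwr, ?_, hvo⟩
  have : ((uOf α v.1).degree : ℤ) = ((r - negw α : ℕ) : ℤ) := by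
    rw [hdeg]; push_cast [Nat.cast_sub hwr]; ring
  exact_mod_cast this

lemma not_nonneg_of_adj_mpow (hα : ∑ i, α i = -1) {v w : ↥(region (mpow σ k r) α)}
    (hadj : (regGraph (mpow σ k r) α).Adj v w) : ¬ ∀ l, 0 ≤ v.1 l := by
  intro hv
  obtain ⟨hsum, -, -, -⟩ := nonneg_pt_mpow hα v hv
  obtain ⟨g1, g2, g3⟩ := mem_region_mpow.1 w.2
  obtain ⟨i, h | h⟩ := (regGraph_adj_iff _ _ v w).1 hadj
  · apply g3
    rw [h]
    refine ⟨fun l => ?_, ?_⟩
    · by_cases hl : l = i
      · subst hl; simp; have := hv l; omega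
      · simp [Pi.single_apply, hl, hv l]
    · rw [sum_add_single, hsum]; linarith
  · have h' : w.1 = v.1 - Pi.single i 1 := by rw [h]; simp
    rw [h', sum_sub_single, hsum, hα] at g2
    linarith

/-- the index set counting the dimension -/
abbrev Dset (σ : Type*) [Fintype σ] (d : ℕ) : Type _ :=
  {u : σ →₀ ℕ // u ∈ (Finset.univ : Finset σ).finsuppAntidiag d}

lemma Dset_degree {d : ℕ} (u : Dset σ d) : u.1.degree = d := by
  have := (Finset.mem_finsuppAntidiag.1 u.2).1
  rw [Finsupp.degree_eq_sum]; exact this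

lemma mem_Dset_of_degree {d : ℕ} (u : σ →₀ ℕ) (hu : u.degree = d) :
    u ∈ (Finset.univ : Finset σ).finsuppAntidiag d := by
  rw [Finset.mem_finsuppAntidiag]
  refine ⟨?_, Finset.subset_univ _⟩
  rw [← Finsupp.degree_eq_sum]; exact hu

/-- the comparison map -/
def PsiM (hα : ∑ i, α i = -1) (hwr : negw α ≤ r) :
    W (mpow σ k r) α →ₗ[k] (Dset σ (r - negw α) → k) :=
  LinearMap.pi fun u =>
    (LinearMap.proj (⟨vOf α u.1, vOf_mem_region hα hwr u.1 (Dset_degree u)⟩ :
      ↥(region (mpow σ k r) α))).comp (W (mpow σ k r) α).subtype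

lemma PsiM_apply (hα : ∑ i, α i = -1) (hwr : negw α ≤ r) (g : W (mpow σ k r) α)
    (u : Dset σ (r - negw α)) :
    PsiM hα hwr g u = g.1 ⟨vOf α u.1, vOf_mem_region hα hwr u.1 (Dset_degree u)⟩ := rfl

lemma PsiM_bijective (hα : ∑ i, α i = -1) (hwr : negw α ≤ r) :
    Function.Bijective (PsiM (k := k) hα hwr) := by
  constructor
  · refine (injective_iff_map_eq_zero _).2 ?_
    intro g hg
    apply Subtype.ext
    funext v
    show g.1 v = 0
    by_cases hv : ∀ l, 0 ≤ v.1 l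
    · obtain ⟨-, -, hdeg, hvo⟩ := nonneg_pt_mpow hα v hv
      have := congrFun hg ⟨uOf α v.1, mem_Dset_of_degree _ hdeg⟩
      rw [PsiM_apply] at this
      have hveq : (⟨vOf α (uOf α v.1), vOf_mem_region hα hwr _ (Dset_degree ⟨uOf α v.1, mem_Dset_of_degree _ hdeg⟩)⟩ :
          ↥(region (mpow σ k r) α)) = v := Subtype.ext hvo
      rw [hveq] at this
      exact this
    · push_neg at hv
      exact g.2.2 v hv
  · intro h
    let g : ↥(region (mpow σ k r) α) → k := fun v =>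
      if hv : (∀ l, 0 ≤ v.1 l) then
        h ⟨uOf α v.1, mem_Dset_of_degree _ (nonneg_pt_mpow hα v hv).2.2.1⟩
      else 0
    have hgW : g ∈ W (mpow σ k r) α := by
      refine ⟨fun v w hadj => ?_, fun v hv => ?_⟩
      · have h1 := not_nonneg_of_adj_mpow hα hadj
        have h2 := not_nonneg_of_adj_mpow hα hadj.symm
        simp only [g, dif_neg h1, dif_neg h2]
      · have : ¬ ∀ l, 0 ≤ v.1 l := by push_neg; exact hv
        simp only [g, dif_neg this]
    refine ⟨⟨g, hgW⟩, ?_⟩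
    funext u
    rw [PsiM_apply]
    have hnn : ∀ l, 0 ≤ (⟨vOf α u.1, vOf_mem_region hα hwr u.1 (Dset_degree u)⟩ :
        ↥(region (mpow σ k r) α)).1 l := by
      intro l; simp only [vOf_apply]; positivity
    simp only [g, dif_pos hnn]
    congr 1
    exact Subtype.ext (uOf_vOf u.1)

/-- dimension of the degree `-1` pieces of `T(m^r)` when `w ≤ r` -/
theorem finrank_tPiece_mpow (hα : ∑ i, α i = -1) (hwr : negw α ≤ r) :
    Module.finrank k ↥(tPiece (mpow σ k r) α) =
      Nat.choose (Fintype.card σ + (r - negw α) - 1) (r - negw α) := by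
  rw [(tPieceEquivW (isMonomial_mpow r) α).finrank_eq,
    (LinearEquiv.ofBijective _ (PsiM_bijective (k := k) hα hwr)).finrank_eq,
    Module.finrank_fintype_fun_eq_card, Fintype.card_coe,
    Finset.card_finsuppAntidiag_nat_eq_choose, Finset.card_univ]

/-- the degree `-1` pieces of `T(m^r)` vanish when `w > r` -/
theorem tPiece_mpow_eq_bot_of_lt (hα : ∑ i, α i = -1) (hwr : r < negw α) :
    tPiece (mpow σ k r) α = ⊥ := by
  apply tPiece_eq_bot_of_W (isMonomial_mpow r)
  intro g hg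
  funext v
  apply hg.2
  by_contra hcon
  push_neg at hcon
  have := (nonneg_pt_mpow hα v hcon).2.1
  omega

end powvars2

end Groth.Agent.Lib.Helper6.Hilbpn
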