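import Mathlib
import Groth.Prelude.Def_W4c1hilbpnTgt
import Groth.Agent.Lib.Helper6.Hilbpn.PowVars2
import Groth.Agent.Lib.Helper6.Hilbpn.FinrankSup

/-! `T(m^r)` in three variables: dimensions of the sign-pattern pieces. -/

open scoped Classical
set_option linter.unusedSectionVars false
set_option autoImplicit false
noncomputable section

namespace Groth.Agent.Lib.Helper6.Hilbpn
open MvPolynomial W4c1hilbpn

variable {k : Type*} [Field k]

lemma fin3_facts : ∀ i : Fin 3, i ≠ i + 1 ∧ i ≠ i + 2 ∧ i + 1 ≠ i + 2 ∧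
    ∀ x, x = i ∨ x = i + 1 ∨ x = i + 2 := by decide

lemma sum_fin3 {M : Type*} [AddCommMonoid M] (i : Fin 3) (f : Fin 3 → M) :
    ∑ x, f x = f i + f (i + 1) + f (i + 2) := by
  have h1 : (1 : Fin 3) + 1 = 2 := by decide
  have h2 : (1 : Fin 3) + 2 = 0 := by decide
  have h3 : (2 : Fin 3) + 1 = 0 := by decide
  have h4 : (2 : Fin 3) + 2 = 1 := by decide
  have h5 : (0 : Fin 3) + 1 = 1 := by decide
  have h6 : (0 : Fin 3) + 2 = 2 := by decide
  rw [Fin.sum_univ_three]
  fin_cases i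
  · show f 0 + f 1 + f 2 = f 0 + f (0 + 1) + f (0 + 2)
    rw [h5, h6]
  · show f 0 + f 1 + f 2 = f 1 + f (1 + 1) + f (1 + 2)
    rw [h1, h2]; abel
  · show f 0 + f 1 + f 2 = f 2 + f (2 + 1) + f (2 + 2)
    rw [h3, h4]; abel

/-- binomial sums -/
lemma hockey (r : ℕ) : ∑ m ∈ Finset.range r, Nat.choose (m + 2) 2 = Nat.choose (r + 2) 3 := by
  induction r with
  | zero => simp
  | succ r ih =>
    rw [Finset.sum_range_succ, ih]
    have := Nat.choose_succ_succ (r + 2) 2
    rw [show r + 1 + 2 = (r + 2).succ from rfl, this]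
    ring

lemma sumOne (r : ℕ) :
    ∑ m ∈ Finset.range r, (r - m) * Nat.choose (m + 2) 2 = Nat.choose (r + 3) 4 := by
  induction r with
  | zero => simp
  | succ r ih =>
    rw [Finset.sum_range_succ]
    have h1 : ∑ m ∈ Finset.range r, (r + 1 - m) * Nat.choose (m + 2) 2 =
        ∑ m ∈ Finset.range r, (r - m) * Nat.choose (m + 2) 2 +
          ∑ m ∈ Finset.range r, Nat.choose (m + 2) 2 := by
      rw [← Finset.sum_add_distrib]
      refine Finset.sum_congr rfl fun m hm => ?_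
      have : m < r := Finset.mem_range.1 hm
      have : r + 1 - m = (r - m) + 1 := by omega
      rw [this]; ring
    rw [h1, ih, hockey]
    have h2 := Nat.choose_succ_succ (r + 3) 3
    have h3 := Nat.choose_succ_succ (r + 2) 2
    rw [show r + 1 + 3 = (r + 3).succ from rfl, h2, show r + 3 = (r + 2).succ from rfl, h3]
    simp only [Nat.succ_eq_add_one]
    have : r + 1 - r = 1 := by omega
    rw [this]
    ring

section three
variable (r : ℕ)

/-- multidegree negative exactly at `i` -/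
def alphaOne (i : Fin 3) (m a : ℕ) : Fin 3 → ℤ := fun x =>
  if x = i then -((r - m : ℕ) : ℤ) else if x = i + 1 then (a : ℤ) else ((r - m : ℕ) : ℤ) - 1 - a

/-- multidegree negative exactly away from `i` -/
def alphaTwo (i : Fin 3) (m p : ℕ) : Fin 3 → ℤ := fun x =>
  if x = i then ((r - m : ℕ) : ℤ) - 1 else if x = i + 1 then -(p : ℤ) else -(((r - m : ℕ) : ℤ) - p)

variable {r}

@[simp] lemma alphaOne_self (i : Fin 3) (m a : ℕ) : alphaOne r i m a i = -((r - m : ℕ) : ℤ) := by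
  simp [alphaOne]
@[simp] lemma alphaOne_one (i : Fin 3) (m a : ℕ) : alphaOne r i m a (i + 1) = (a : ℤ) := by
  have := (fin3_facts i).1
  simp [alphaOne, Ne.symm this]
@[simp] lemma alphaOne_two (i : Fin 3) (m a : ℕ) :
    alphaOne r i m a (i + 2) = ((r - m : ℕ) : ℤ) - 1 - a := by
  have h1 := (fin3_facts i).2.1
  have h2 := (fin3_facts i).2.2.1
  simp [alphaOne, Ne.symm h1, Ne.symm h2]

@[simp] lemma alphaTwo_self (i : Fin 3) (m p : ℕ) : alphaTwo r i m p i = ((r - m : ℕ) : ℤ) - 1 := by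
  simp [alphaTwo]
@[simp] lemma alphaTwo_one (i : Fin 3) (m p : ℕ) : alphaTwo r i m p (i + 1) = -(p : ℤ) := by
  have := (fin3_facts i).1
  simp [alphaTwo, Ne.symm this]
@[simp] lemma alphaTwo_two (i : Fin 3) (m p : ℕ) :
    alphaTwo r i m p (i + 2) = -(((r - m : ℕ) : ℤ) - p) := by
  have h1 := (fin3_facts i).2.1
  have h2 := (fin3_facts i).2.2.1
  simp [alphaTwo, Ne.symm h1, Ne.symm h2]

lemma ext_fin3 (i : Fin 3) {f g : Fin 3 → ℤ} (h0 : f i = g i) (h1 : f (i + 1) = g (i + 1))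
    (h2 : f (i + 2) = g (i + 2)) : f = g := by
  funext x
  rcases (fin3_facts i).2.2.2 x with h | h | h <;> rw [h] <;> assumption

variable (r)

/-- index set for the degrees negative exactly at `i` -/
def SOne : Finset (Σ _ : ℕ, ℕ) := (Finset.range r).sigma fun m => Finset.range (r - m)

/-- index set for the degrees negative exactly away from `i` -/
def STwo : Finset (Σ _ : ℕ, ℕ) := (Finset.range (r - 1)).sigma fun m => Finset.Icc 1 (r - m - 1)

def FOne (i : Fin 3) : Finset (Fin 3 → ℤ) := (SOne r).image fun s => alphaOne r i s.1 s.2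
def FTwo (i : Fin 3) : Finset (Fin 3 → ℤ) := (STwo r).image fun s => alphaTwo r i s.1 s.2

variable {r}

lemma mem_SOne {s : Σ _ : ℕ, ℕ} : s ∈ SOne r ↔ s.1 < r ∧ s.2 < r - s.1 := by
  simp [SOne]

lemma mem_STwo {s : Σ _ : ℕ, ℕ} : s ∈ STwo r ↔ s.1 < r - 1 ∧ 1 ≤ s.2 ∧ s.2 ≤ r - s.1 - 1 := by
  simp [STwo]

lemma alphaOne_inj (i : Fin 3) : Set.InjOn (fun s : Σ _ : ℕ, ℕ => alphaOne r i s.1 s.2) (SOne r) := by
  rintro ⟨m, a⟩ hs ⟨m', a'⟩ hs' h
  rw [Finset.mem_coe, mem_SOne] at hs hs'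
  simp only at hs hs' h
  have h0 := congrFun h i
  have h1 := congrFun h (i + 1)
  simp only [alphaOne_self, alphaOne_one] at h0 h1
  have : m = m' := by omega
  have : a = a' := by omega
  subst_vars; rfl

lemma alphaTwo_inj (i : Fin 3) : Set.InjOn (fun s : Σ _ : ℕ, ℕ => alphaTwo r i s.1 s.2) (STwo r) := by
  rintro ⟨m, a⟩ hs ⟨m', a'⟩ hs' h
  rw [Finset.mem_coe, mem_STwo] at hs hs'
  simp only at hs hs' h
  have h0 := congrFun h i
  have h1 := congrFun h (i + 1)
  simp only [alphaTwo_self, alphaTwo_one] at h0 h1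
  have : m = m' := by omega
  have : a = a' := by omega
  subst_vars; rfl

lemma sum_alphaOne (i : Fin 3) {m a : ℕ} : ∑ x, alphaOne r i m a x = -1 := by
  rw [sum_fin3 i]; simp only [alphaOne_self, alphaOne_one, alphaOne_two]; ring

lemma sum_alphaTwo (i : Fin 3) {m p : ℕ} : ∑ x, alphaTwo r i m p x = -1 := by
  rw [sum_fin3 i]; simp only [alphaTwo_self, alphaTwo_one, alphaTwo_two]; ring

lemma negw_alphaOne (i : Fin 3) {m a : ℕ} (hm : m < r) (ha : a < r - m) :
    negw (alphaOne r i m a) = r - m := by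
  unfold negw
  rw [sum_fin3 i]
  simp only [alphaOne_self, alphaOne_one, alphaOne_two]
  omega

lemma negw_alphaTwo (i : Fin 3) {m p : ℕ} (hm : m < r - 1) (hp1 : 1 ≤ p) (hp : p ≤ r - m - 1) :
    negw (alphaTwo r i m p) = r - m := by
  unfold negw
  rw [sum_fin3 i]
  simp only [alphaTwo_self, alphaTwo_one, alphaTwo_two]
  omega

lemma finite_tPiece_mpow {σ : Type*} [Fintype σ] {α : σ → ℤ} (hα : ∑ i, α i = -1) (hwr : negw α ≤ r) :
    Module.Finite k ↥(tPiece (mpow σ k r) α) := by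
  have e := (tPieceEquivW (isMonomial_mpow (σ := σ) (k := k) r) α).trans
    (LinearEquiv.ofBijective _ (PsiM_bijective (k := k) hα hwr))
  exact Module.Finite.equiv e.symm

lemma finrank_tPiece_three {α : Fin 3 → ℤ} (hα : ∑ i, α i = -1) {m : ℕ} (hm : m < r)
    (hw : negw α = r - m) :
    Module.finrank k ↥(tPiece (mpow (Fin 3) k r) α) = Nat.choose (m + 2) 2 := by
  have hwr : negw α ≤ r := by omega
  rw [finrank_tPiece_mpow hα hwr, Fintype.card_fin, hw]
  have : r - (r - m) = m := by omega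
  rw [this, show 3 + m - 1 = m + 2 by omega]
  exact Nat.choose_symm_of_eq_add (by omega)

lemma tPiece_three_eq_bot {α : Fin 3 → ℤ} (h : ¬ (∑ i, α i = -1 ∧ negw α ≤ r)) :
    tPiece (mpow (Fin 3) k r) α = ⊥ := by
  rw [not_and_or] at h
  by_cases h1 : ∑ i, α i = -1
  · rcases h with h | h
    · exact absurd h1 h
    · exact tPiece_mpow_eq_bot_of_lt h1 (by omega)
  · rcases lt_trichotomy (∑ i, α i) (-1) with h2 | h2 | h2
    · exact tPiece_mpow_eq_bot_of_sum_le (by omega)
    · exact absurd h2 h1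
    · exact tPiece_mpow_eq_bot_of_sum_nonneg (by omega)

/-- the degrees negative exactly at `i` outside `FOne` have zero piece -/
lemma tPiece_eq_bot_of_not_mem_FOne (i : Fin 3) {α : Fin 3 → ℤ}
    (hP : ∀ x, α x < 0 ↔ x ∈ ({i} : Set (Fin 3))) (hF : α ∉ FOne r i) :
    tPiece (mpow (Fin 3) k r) α = ⊥ := by
  by_contra hne
  have hc : ∑ x, α x = -1 ∧ negw α ≤ r := by
    by_contra hc; exact hne (tPiece_three_eq_bot hc)
  obtain ⟨hs, hw⟩ := hc
  have h0 : α i < 0 := (hP i).2 rfl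
  have h1 : 0 ≤ α (i + 1) := by
    by_contra hcon
    have := (hP (i + 1)).1 (not_le.1 hcon)
    exact (fin3_facts i).1 (Set.mem_singleton_iff.1 this).symm
  have h2 : 0 ≤ α (i + 2) := by
    by_contra hcon
    have := (hP (i + 2)).1 (not_le.1 hcon)
    exact (fin3_facts i).2.1 (Set.mem_singleton_iff.1 this).symm
  have hs' := hs
  rw [sum_fin3 i] at hs'
  have hw' : negw α = (-α i).toNat := by
    unfold negw; rw [sum_fin3 i]; omega
  apply hF
  unfold FOne
  rw [Finset.mem_image]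
  refine ⟨⟨r - (-α i).toNat, (α (i + 1)).toNat⟩, ?_, ?_⟩
  · rw [mem_SOne]; simp only; omega
  · apply ext_fin3 i
    · simp only [alphaOne_self]; omega
    · simp only [alphaOne_one]; omega
    · simp only [alphaOne_two]; omega

lemma tPiece_eq_bot_of_not_mem_FTwo (i : Fin 3) {α : Fin 3 → ℤ}
    (hP : ∀ x, α x < 0 ↔ x ∈ ({i}ᶜ : Set (Fin 3))) (hF : α ∉ FTwo r i) :
    tPiece (mpow (Fin 3) k r) α = ⊥ := by
  by_contra hne
  have hc : ∑ x, α x = -1 ∧ negw α ≤ r := by
    by_contra hc; exact hne (tPiece_three_eq_bot hc)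
  obtain ⟨hs, hw⟩ := hc
  have h0 : 0 ≤ α i := by
    by_contra hcon
    have := (hP i).1 (not_le.1 hcon)
    exact this rfl
  have h1 : α (i + 1) < 0 := (hP (i + 1)).2 (fun h => (fin3_facts i).1 (Set.mem_singleton_iff.1 h).symm)
  have h2 : α (i + 2) < 0 := (hP (i + 2)).2 (fun h => (fin3_facts i).2.1 (Set.mem_singleton_iff.1 h).symm)
  have hs' := hs
  rw [sum_fin3 i] at hs'
  have hw' : negw α = (-α (i + 1)).toNat + (-α (i + 2)).toNat := by
    unfold negw; rw [sum_fin3 i]; omega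
  apply hF
  unfold FTwo
  rw [Finset.mem_image]
  refine ⟨⟨r - ((-α (i + 1)).toNat + (-α (i + 2)).toNat), (-α (i + 1)).toNat⟩, ?_, ?_⟩
  · rw [mem_STwo]; simp only; omega
  · apply ext_fin3 i
    · simp only [alphaTwo_self]; omega
    · simp only [alphaTwo_one]; omega
    · simp only [alphaTwo_two]; omega

lemma pattern_of_mem_FOne (i : Fin 3) {α : Fin 3 → ℤ} (hF : α ∈ FOne r i) :
    ∀ x, α x < 0 ↔ x ∈ ({i} : Set (Fin 3)) := by
  unfold FOne at hF
  obtain ⟨⟨m, a⟩, hs, rfl⟩ := Finset.mem_image.1 hF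
  rw [mem_SOne] at hs
  simp only at hs
  intro x
  rw [Set.mem_singleton_iff]
  rcases (fin3_facts i).2.2.2 x with h | h | h
  · rw [h]; simp only [alphaOne_self]; constructor
    · intro _; trivial
    · intro _; omega
  · rw [h]; simp only [alphaOne_one]; constructor
    · intro h'; omega
    · intro h'; exact absurd h'.symm (fin3_facts i).1
  · rw [h]; simp only [alphaOne_two]; constructor
    · intro h'; omega
    · intro h'; exact absurd h'.symm (fin3_facts i).2.1

lemma pattern_of_mem_FTwo (i : Fin 3) {α : Fin 3 → ℤ} (hF : α ∈ FTwo r i) :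
    ∀ x, α x < 0 ↔ x ∈ ({i}ᶜ : Set (Fin 3)) := by
  unfold FTwo at hF
  obtain ⟨⟨m, p⟩, hs, rfl⟩ := Finset.mem_image.1 hF
  rw [mem_STwo] at hs
  simp only at hs
  intro x
  rw [Set.mem_compl_iff, Set.mem_singleton_iff]
  rcases (fin3_facts i).2.2.2 x with h | h | h
  · rw [h]; simp only [alphaTwo_self]; constructor
    · intro h'; omega
    · intro h'; exact absurd trivial h'
  · rw [h]; simp only [alphaTwo_one]; constructor
    · intro _ h'; exact (fin3_facts i).1 h'.symm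
    · intro _; omega
  · rw [h]; simp only [alphaTwo_two]; constructor
    · intro _ h'; exact (fin3_facts i).2.1 h'.symm
    · intro _; omega

lemma sum_FOne (i : Fin 3) :
    ∑ α ∈ FOne r i, Module.finrank k ↥(tPiece (mpow (Fin 3) k r) α) = Nat.choose (r + 3) 4 := by
  unfold FOne
  rw [Finset.sum_image (alphaOne_inj i)]
  have h1 : ∀ s ∈ SOne r, Module.finrank k ↥(tPiece (mpow (Fin 3) k r) (alphaOne r i s.1 s.2)) =
      Nat.choose (s.1 + 2) 2 := by
    intro s hs
    rw [mem_SOne] at hs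
    exact finrank_tPiece_three (sum_alphaOne i) hs.1 (negw_alphaOne i hs.1 hs.2)
  rw [Finset.sum_congr rfl h1]
  unfold SOne
  rw [Finset.sum_sigma]
  simp only [Finset.sum_const, Finset.card_range, smul_eq_mul]
  exact sumOne r

lemma sum_FTwo (i : Fin 3) :
    ∑ α ∈ FTwo r i, Module.finrank k ↥(tPiece (mpow (Fin 3) k r) α) = Nat.choose (r + 2) 4 := by
  unfold FTwo
  rw [Finset.sum_image (alphaTwo_inj i)]
  have h1 : ∀ s ∈ STwo r, Module.finrank k ↥(tPiece (mpow (Fin 3) k r) (alphaTwo r i s.1 s.2)) =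
      Nat.choose (s.1 + 2) 2 := by
    intro s hs
    rw [mem_STwo] at hs
    exact finrank_tPiece_three (sum_alphaTwo i) (by omega) (negw_alphaTwo i hs.1 hs.2.1 hs.2.2)
  rw [Finset.sum_congr rfl h1]
  unfold STwo
  rw [Finset.sum_sigma]
  simp only [Finset.sum_const, Nat.card_Icc, smul_eq_mul]
  rcases Nat.eq_zero_or_pos r with h0 | hpos
  · subst h0; simp [Nat.choose]
  · have h2 : ∑ m ∈ Finset.range (r - 1), (r - m - 1 + 1 - 1) * Nat.choose (m + 2) 2 =
        ∑ m ∈ Finset.range (r - 1), (r - 1 - m) * Nat.choose (m + 2) 2 := by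
      refine Finset.sum_congr rfl fun m _ => ?_
      congr 1; omega
    rw [h2, sumOne (r - 1)]
    congr 1; omega

lemma finite_of_mem_FOne (i : Fin 3) {α : Fin 3 → ℤ} (hF : α ∈ FOne r i) :
    Module.Finite k ↥(tPiece (mpow (Fin 3) k r) α) := by
  unfold FOne at hF
  obtain ⟨⟨m, a⟩, hs, rfl⟩ := Finset.mem_image.1 hF
  rw [mem_SOne] at hs
  refine finite_tPiece_mpow (sum_alphaOne i) ?_
  rw [negw_alphaOne i hs.1 hs.2]; omega

lemma finite_of_mem_FTwo (i : Fin 3) {α : Fin 3 → ℤ} (hF : α ∈ FTwo r i) :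
    Module.Finite k ↥(tPiece (mpow (Fin 3) k r) α) := by
  unfold FTwo at hF
  obtain ⟨⟨m, a⟩, hs, rfl⟩ := Finset.mem_image.1 hF
  rw [mem_STwo] at hs
  refine finite_tPiece_mpow (sum_alphaTwo i) ?_
  rw [negw_alphaTwo i hs.1 hs.2.1 hs.2.2]; omega

variable (r)

theorem finrank_sigPiece_one (i : Fin 3) :
    Module.finrank k ↥(sigPiece (mpow (Fin 3) k r) ({i} : Set (Fin 3))) = Nat.choose (r + 3) 4 := by
  unfold sigPiece
  rw [finrank_iSup_subtype (fun α => tPiece (mpow (Fin 3) k r) α)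
    (iSupIndep_tPiece (isMonomial_mpow r)) _ (FOne r i)
    (fun α hα => pattern_of_mem_FOne i hα)
    (fun α hP hF => tPiece_eq_bot_of_not_mem_FOne i hP hF)
    (fun α hα => finite_of_mem_FOne i hα)]
  exact sum_FOne i

theorem finrank_sigPiece_two (i : Fin 3) :
    Module.finrank k ↥(sigPiece (mpow (Fin 3) k r) ({i}ᶜ : Set (Fin 3))) = Nat.choose (r + 2) 4 := by
  unfold sigPiece
  rw [finrank_iSup_subtype (fun α => tPiece (mpow (Fin 3) k r) α)
    (iSupIndep_tPiece (isMonomial_mpow r)) _ (FTwo r i)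
    (fun α hα => pattern_of_mem_FTwo i hα)
    (fun α hP hF => tPiece_eq_bot_of_not_mem_FTwo i hP hF)
    (fun α hα => finite_of_mem_FTwo i hα)]
  exact sum_FTwo i

end three

end Groth.Agent.Lib.Helper6.Hilbpn
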