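import Mathlib
import Groth.Prelude.Def_W4c1hilbpnTgt
import Groth.Agent.Lib.Helper6.Hilbpn.PowThree

/-! `dim T(m^r)` in three variables. -/

open scoped Classical
set_option linter.unusedSectionVars false
set_option autoImplicit false
noncomputable section

namespace Groth.Agent.Lib.Helper6.Hilbpn
open MvPolynomial W4c1hilbpn

variable {k : Type*} [Field k]

lemma choose_identity (r : ℕ) :
    3 * (Nat.choose (r + 3) 4 + Nat.choose (r + 2) 4) = Nat.choose (r + 2) 2 * Nat.choose (r + 1) 2 := by
  induction r with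
  | zero => simp [Nat.choose]
  | succ r ih =>
    have p1 : Nat.choose (r + 4) 4 = Nat.choose (r + 3) 3 + Nat.choose (r + 3) 4 :=
      Nat.choose_succ_succ (r + 3) 3
    have p2 : Nat.choose (r + 3) 4 = Nat.choose (r + 2) 3 + Nat.choose (r + 2) 4 :=
      Nat.choose_succ_succ (r + 2) 3
    have p3 : Nat.choose (r + 3) 2 = Nat.choose (r + 2) 1 + Nat.choose (r + 2) 2 :=
      Nat.choose_succ_succ (r + 2) 1
    have p4 : Nat.choose (r + 2) 2 = Nat.choose (r + 1) 1 + Nat.choose (r + 1) 2 :=
      Nat.choose_succ_succ (r + 1) 1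
    have q1 : (r + 3) * Nat.choose (r + 2) 2 = Nat.choose (r + 3) 3 * 3 :=
      Nat.add_one_mul_choose_eq (r + 2) 2
    have q2 : Nat.choose (r + 2) 3 * 3 = Nat.choose (r + 2) 2 * r := by
      have := Nat.choose_succ_right_eq (r + 2) 2
      simpa using this
    rw [Nat.choose_one_right] at p3 p4
    show 3 * (Nat.choose (r + 4) 4 + Nat.choose (r + 3) 4) =
      Nat.choose (r + 3) 2 * Nat.choose (r + 2) 2
    have e1 : Nat.choose (r + 4) 4 + Nat.choose (r + 3) 4 =
        (Nat.choose (r + 3) 4 + Nat.choose (r + 2) 4) + (Nat.choose (r + 3) 3 + Nat.choose (r + 2) 3) := by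
      rw [p1, p2]; ring
    rw [e1, mul_add, ih, p3]
    set x := Nat.choose (r + 1) 2 with hx
    set y := Nat.choose (r + 2) 2 with hy
    have e2 : 3 * (Nat.choose (r + 3) 3 + Nat.choose (r + 2) 3) = y * (2 * r + 3) := by
      have : 3 * (Nat.choose (r + 3) 3 + Nat.choose (r + 2) 3) =
          Nat.choose (r + 3) 3 * 3 + Nat.choose (r + 2) 3 * 3 := by ring
      rw [this, ← q1, q2]; ring
    rw [e2, p4]
    ring

section total
variable (r : ℕ)

/-- sign pattern as a finset -/
def pat (α : Fin 3 → ℤ) : Finset (Fin 3) := Finset.univ.filter fun x => α x < 0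

lemma pat_of_mem_FOne {i : Fin 3} {α : Fin 3 → ℤ} (h : α ∈ FOne r i) : pat α = {i} := by
  ext x
  have := pattern_of_mem_FOne i h x
  simp only [pat, Finset.mem_filter, Finset.mem_univ, true_and, Finset.mem_singleton]
  rw [this]; rfl

lemma pat_of_mem_FTwo {i : Fin 3} {α : Fin 3 → ℤ} (h : α ∈ FTwo r i) : pat α = {i}ᶜ := by
  ext x
  have := pattern_of_mem_FTwo i h x
  simp only [pat, Finset.mem_filter, Finset.mem_univ, true_and, Finset.mem_compl,
    Finset.mem_singleton]
  rw [this]; rfl

lemma pat_facts : ∀ i i' : Fin 3, (({i} : Finset (Fin 3)) ≠ {i'}ᶜ) ∧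
    (i ≠ i' → ({i} : Finset (Fin 3)) ≠ {i'}) ∧ (i ≠ i' → ({i}ᶜ : Finset (Fin 3)) ≠ {i'}ᶜ) := by
  decide

lemma pat_classify : ∀ N : Finset (Fin 3), N.Nonempty → N ≠ Finset.univ →
    ∃ i, N = {i} ∨ N = {i}ᶜ := by
  decide

/-- all the degrees with a nonzero piece -/
def FAll : Finset (Fin 3 → ℤ) := Finset.univ.biUnion fun i => FOne r i ∪ FTwo r i

lemma disjoint_FOne_FTwo (i : Fin 3) : Disjoint (FOne r i) (FTwo r i) := by
  rw [Finset.disjoint_left]
  intro α h1 h2
  have := pat_of_mem_FOne r h1
  rw [pat_of_mem_FTwo r h2] at this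
  exact (pat_facts i i).1 this.symm

lemma tPiece_eq_bot_of_not_mem_FAll {α : Fin 3 → ℤ} (hF : α ∉ FAll r) :
    tPiece (mpow (Fin 3) k r) α = ⊥ := by
  by_contra hne
  have hc : ∑ x, α x = -1 ∧ negw α ≤ r := by
    by_contra hc; exact hne (tPiece_three_eq_bot hc)
  have hne1 : (pat α).Nonempty := by
    by_contra hcon
    rw [Finset.not_nonempty_iff_eq_empty] at hcon
    have : 0 ≤ ∑ x, α x := Finset.sum_nonneg fun x _ => by
      by_contra hx
      have : x ∈ pat α := by simp [pat]; exact not_le.1 hx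
      rw [hcon] at this
      exact absurd this (Finset.notMem_empty x)
    omega
  have hne2 : pat α ≠ Finset.univ := by
    intro hcon
    have hall : ∀ x, α x < 0 := by
      intro x
      have : x ∈ pat α := by rw [hcon]; exact Finset.mem_univ x
      simpa [pat] using this
    have h3 := hc.1
    rw [Fin.sum_univ_three] at h3
    have := hall 0; have := hall 1; have := hall 2
    omega
  obtain ⟨i, hi | hi⟩ := pat_classify (pat α) hne1 hne2
  · apply hne
    apply tPiece_eq_bot_of_not_mem_FOne i
    · intro x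
      have : x ∈ pat α ↔ x ∈ ({i} : Finset (Fin 3)) := by rw [hi]
      simpa [pat] using this
    · intro h
      apply hF
      unfold FAll
      rw [Finset.mem_biUnion]
      exact ⟨i, Finset.mem_univ i, Finset.mem_union_left _ h⟩
  · apply hne
    apply tPiece_eq_bot_of_not_mem_FTwo i
    · intro x
      have : x ∈ pat α ↔ x ∈ ({i}ᶜ : Finset (Fin 3)) := by rw [hi]
      simpa [pat] using this
    · intro h
      apply hF
      unfold FAll
      rw [Finset.mem_biUnion]
      exact ⟨i, Finset.mem_univ i, Finset.mem_union_right _ h⟩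

theorem finrank_Tgt_mpow_three :
    Module.finrank k (Tgt (mpow (Fin 3) k r)) = Nat.choose (r + 2) 2 * Nat.choose (r + 1) 2 := by
  have h1 : Module.finrank k (Tgt (mpow (Fin 3) k r)) =
      Module.finrank k ↥(⊤ : Submodule k (Tgt (mpow (Fin 3) k r))) := (finrank_top k _).symm
  have h2 : (⊤ : Submodule k (Tgt (mpow (Fin 3) k r))) =
      ⨆ α : {α : Fin 3 → ℤ // True}, tPiece (mpow (Fin 3) k r) α.1 := by
    rw [← iSup_tPiece_eq_top (isMonomial_mpow r)]
    apply le_antisymm
    · exact iSup_le fun α => le_iSup (fun β : {α : Fin 3 → ℤ // True} => tPiece (mpow (Fin 3) k r) β.1) ⟨α, trivial⟩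
    · exact iSup_le fun α => le_iSup (fun β : Fin 3 → ℤ => tPiece (mpow (Fin 3) k r) β) α.1
  rw [h1, h2, finrank_iSup_subtype (fun α => tPiece (mpow (Fin 3) k r) α)
    (iSupIndep_tPiece (isMonomial_mpow r)) (fun _ => True) (FAll r)
    (fun _ _ => trivial)
    (fun α _ hF => tPiece_eq_bot_of_not_mem_FAll r hF)]
  · unfold FAll
    rw [Finset.sum_biUnion]
    · have : ∀ i ∈ (Finset.univ : Finset (Fin 3)),
          ∑ α ∈ FOne r i ∪ FTwo r i, Module.finrank k ↥(tPiece (mpow (Fin 3) k r) α) =
            Nat.choose (r + 3) 4 + Nat.choose (r + 2) 4 := by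
        intro i _
        rw [Finset.sum_union (disjoint_FOne_FTwo r i), sum_FOne, sum_FTwo]
      rw [Finset.sum_congr rfl this]
      simp only [Finset.sum_const, Finset.card_univ, Fintype.card_fin, smul_eq_mul]
      exact choose_identity r
    · intro i _ i' _ hii'
      show Disjoint (FOne r i ∪ FTwo r i) (FOne r i' ∪ FTwo r i')
      rw [Finset.disjoint_left]
      intro α h1 h2
      rcases Finset.mem_union.1 h1 with h1 | h1 <;> rcases Finset.mem_union.1 h2 with h2 | h2
      · have := pat_of_mem_FOne r h1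
        rw [pat_of_mem_FOne r h2] at this
        exact (pat_facts i i').2.1 hii' this.symm
      · have := pat_of_mem_FOne r h1
        rw [pat_of_mem_FTwo r h2] at this
        exact (pat_facts i i').1 this.symm
      · have := pat_of_mem_FOne r h2
        rw [pat_of_mem_FTwo r h1] at this
        exact (pat_facts i' i).1 this.symm
      · have := pat_of_mem_FTwo r h1
        rw [pat_of_mem_FTwo r h2] at this
        exact (pat_facts i i').2.2 hii' this.symm
  · intro α hα
    unfold FAll at hα
    obtain ⟨i, _, hi⟩ := Finset.mem_biUnion.1 hα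
    rcases Finset.mem_union.1 hi with h | h
    · exact finite_of_mem_FOne i h
    · exact finite_of_mem_FTwo i h

end total

end Groth.Agent.Lib.Helper6.Hilbpn
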