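import Mathlib

/-! Numeric lemmas on two-variable staircase functions. -/

open scoped Classical
set_option linter.unusedSectionVars false
set_option autoImplicit false
noncomputable section

namespace Groth.Agent.Lib.Helper6.Hilbpn.SSNum

lemma sum_Ico_tsub_anti (f : ℕ → ℕ) (hf : ∀ j, f (j + 1) ≤ f j) (a n : ℕ) (han : a ≤ n) :
    ∑ j ∈ Finset.Ico a n, (f j - f (j + 1)) = f a - f n := by
  have hanti : ∀ i j, i ≤ j → f j ≤ f i := by
    intro i j hij
    induction j, hij using Nat.le_induction with
    | base => exact le_rfl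
    | succ j _ ih => exact le_trans (hf j) ih
  induction n, han using Nat.le_induction with
  | base => simp
  | succ n hn ih =>
    rw [Finset.sum_Ico_succ_top hn, ih]
    have h1 := hanti a n hn
    have h2 := hf n
    omega

section
variable (h : ℕ → ℕ → ℕ) (B0 B1 : ℕ)
  (m1 : ∀ i j, h (i + 1) j ≤ h i (j + 1)) (m2 : ∀ i j, h i (j + 1) ≤ h i j)
  (hz : ∀ i j, B0 ≤ i ∨ B1 ≤ j → h i j = 0)

include m1 m2 hz in
lemma finsum_eq (a1 a2 : ℕ) :
    (∑ᶠ p : ℕ × ℕ, (if a1 ≤ p.1 ∧ a2 ≤ p.2
        then h p.1 p.2 - max (h (p.1 + 1) p.2) (h p.1 (p.2 + 1)) else 0)) =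
      ∑ i ∈ Finset.Ico a1 B0, h i a2 := by
  rw [finsum_eq_sum_of_support_subset (s := Finset.range B0 ×ˢ Finset.range B1)]
  · rw [Finset.sum_product]
    have hrow : ∀ i, ∑ j ∈ Finset.range B1, (if a1 ≤ i ∧ a2 ≤ j
        then h i j - max (h (i + 1) j) (h i (j + 1)) else 0) = if a1 ≤ i then h i a2 else 0 := by
      intro i
      by_cases hi : a1 ≤ i
      · rw [if_pos hi]
        have h1 : ∀ j, (if a1 ≤ i ∧ a2 ≤ j then h i j - max (h (i + 1) j) (h i (j + 1)) else 0) =
            if a2 ≤ j then h i j - h i (j + 1) else 0 := by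
          intro j
          by_cases hj : a2 ≤ j
          · rw [if_pos ⟨hi, hj⟩, if_pos hj, max_eq_right (m1 i j)]
          · rw [if_neg (fun hh => hj hh.2), if_neg hj]
        simp only [h1]
        rw [← Finset.sum_filter]
        by_cases ha2 : a2 ≤ B1
        · have hfil : (Finset.range B1).filter (fun j => a2 ≤ j) = Finset.Ico a2 B1 := by
            ext j
            simp only [Finset.mem_filter, Finset.mem_range, Finset.mem_Ico]
            tauto
          rw [hfil, sum_Ico_tsub_anti (fun j => h i j) (m2 i) a2 B1 ha2, hz i B1 (Or.inr le_rfl)]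
          simp
        · push_neg at ha2
          have hfil : (Finset.range B1).filter (fun j => a2 ≤ j) = ∅ := by
            ext j
            simp only [Finset.mem_filter, Finset.mem_range, Finset.notMem_empty, iff_false]
            omega
          rw [hfil, Finset.sum_empty, hz i a2 (Or.inr ha2.le)]
      · rw [if_neg hi]
        refine Finset.sum_eq_zero fun j _ => ?_
        rw [if_neg (fun hh => hi hh.1)]
    simp only [hrow]
    rw [← Finset.sum_filter]
    by_cases ha1 : a1 ≤ B0
    · have hfil : (Finset.range B0).filter (fun i => a1 ≤ i) = Finset.Ico a1 B0 := by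
        ext j
        simp only [Finset.mem_filter, Finset.mem_range, Finset.mem_Ico]
        tauto
      rw [hfil]
    · push_neg at ha1
      have hfil : (Finset.range B0).filter (fun i => a1 ≤ i) = ∅ := by
        ext j
        simp only [Finset.mem_filter, Finset.mem_range, Finset.notMem_empty, iff_false]
        omega
      rw [hfil, Finset.Ico_eq_empty (by omega)]
  · intro p hp
    rw [Function.mem_support] at hp
    rw [Finset.coe_product, Set.mem_prod, Finset.mem_coe, Finset.mem_coe, Finset.mem_range,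
      Finset.mem_range]
    by_contra hcon
    apply hp
    have : B0 ≤ p.1 ∨ B1 ≤ p.2 := by
      by_contra hh
      push_neg at hh
      exact hcon ⟨hh.1, hh.2⟩
    rw [hz p.1 p.2 this]
    split_ifs <;> simp

lemma sum_tri (A : ℕ → ℕ) (B : ℕ) :
    ∑ a ∈ Finset.range B, ∑ i ∈ Finset.Ico (a + 1) B, A i = ∑ i ∈ Finset.range B, i * A i := by
  induction B with
  | zero => simp
  | succ B ih =>
    rw [Finset.sum_range_succ, Finset.sum_range_succ, ← ih]
    have h1 : Finset.Ico (B + 1) (B + 1) = ∅ := Finset.Ico_self _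
    rw [h1, Finset.sum_empty, add_zero]
    have h2 : ∀ a ∈ Finset.range B, ∑ i ∈ Finset.Ico (a + 1) (B + 1), A i =
        ∑ i ∈ Finset.Ico (a + 1) B, A i + A B := by
      intro a ha
      rw [Finset.sum_Ico_succ_top (by have := Finset.mem_range.1 ha; omega)]
    rw [Finset.sum_congr rfl h2, Finset.sum_add_distrib]
    simp

/-- the total of `U - h` over the box -/
lemma sum_box :
    ∑ a1 ∈ Finset.range B0, ∑ a2 ∈ Finset.range B1, (∑ i ∈ Finset.Ico a1 B0, h i a2 - h a1 a2) =
      ∑ i ∈ Finset.range B0, i * ∑ a2 ∈ Finset.range B1, h i a2 := by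
  rw [← sum_tri (fun i => ∑ a2 ∈ Finset.range B1, h i a2) B0]
  refine Finset.sum_congr rfl fun a1 ha1 => ?_
  rw [Finset.sum_comm]
  refine Finset.sum_congr rfl fun a2 _ => ?_
  rw [Finset.sum_eq_sum_Ico_succ_bot (Finset.mem_range.1 ha1)]
  omega

end

end Groth.Agent.Lib.Helper6.Hilbpn.SSNum
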