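import Mathlib
import Groth.Prelude.Def_W4c1hilbpnTgt
import Groth.Agent.Lib.Helper6.Hilbpn.PPN
import Groth.Agent.Lib.Helper6.Hilbpn.SSNum
import Groth.Agent.Lib.Helper6.Hilbpn.Kz.Symm3
import Groth.Agent.Lib.Helper6.Hilbpn.Kz.SigSymm

/-! The bound `dim T_{xy}(J) ≤ ∑ i · (colength of the i-th slice)` for monomial ideals whose
staircase satisfies `b(i+1, j) ≤ b(i, j+1)`. -/

open scoped Classical
set_option linter.unusedSectionVars false
set_option autoImplicit false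
noncomputable section

namespace Groth.Agent.Lib.Helper6.Hilbpn
open MvPolynomial W4c1hilbpn

variable {k : Type*} [Field k]
variable {J : Ideal (MvPolynomial (Fin 3) k)} (hJ : IsMonomial J)
variable [Module.Finite k (MvPolynomial (Fin 3) k ⧸ J)]

include hJ in
lemma stairZ_anti (i b : ℕ) : stairZ J i (b + 1) ≤ stairZ J i b := by
  by_contra hcon
  push_neg at hcon
  have h1 := (not_mem_iff_lt_stairZ hJ i (b + 1) _).2 hcon
  have h2 : e3 i b (stairZ J i b) ∈ exps J := by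
    by_contra h
    exact absurd ((not_mem_iff_lt_stairZ hJ i b _).1 h) (lt_irrefl _)
  exact h1 (exps_of_le h2 (e3_le_e3 le_rfl (Nat.le_succ _) le_rfl))

include hJ in
lemma finrank_pp_le (m1 : ∀ i j, stairZ J (i + 1) j ≤ stairZ J i (j + 1)) (B0 B1 : ℕ)
    (hz : ∀ i j, B0 ≤ i ∨ B1 ≤ j → stairZ J i j = 0) (a1 a2 : ℕ) :
    Module.finrank k ↥(⨆ α : {α : Fin 3 → ℤ // α 0 = (a1 : ℤ) ∧ α 1 = (a2 : ℤ)}, tPiece J α.1) ≤
      ∑ i ∈ Finset.Ico a1 B0, stairZ J i a2 := by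
  have heq : (⨆ α : {α : Fin 3 → ℤ // α 0 = (a1 : ℤ) ∧ α 1 = (a2 : ℤ)}, tPiece J α.1) =
      ⨆ α : {α : Fin 3 → ℤ // α 0 = (a1 : ℤ) ∧ α 1 = (a2 : ℤ) ∧ α 2 < 0}, tPiece J α.1 := by
    apply le_antisymm
    · refine iSup_le fun α => ?_
      by_cases h2 : α.1 2 < 0
      · exact le_iSup_of_le
          (⟨α.1, α.2.1, α.2.2, h2⟩ :
            {α : Fin 3 → ℤ // α 0 = (a1 : ℤ) ∧ α 1 = (a2 : ℤ) ∧ α 2 < 0}) le_rfl
      · rw [tPiece_eq_bot_of_nonneg hJ]
        · exact bot_le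
        · rw [forall_fin3]
          refine ⟨?_, ?_, ?_⟩
          · rw [α.2.1]; exact Int.natCast_nonneg _
          · rw [α.2.2]; exact Int.natCast_nonneg _
          · exact not_lt.1 h2
    · exact iSup_le fun α => le_iSup_of_le
        (⟨α.1, α.2.1, α.2.2.1⟩ : {α : Fin 3 → ℤ // α 0 = (a1 : ℤ) ∧ α 1 = (a2 : ℤ)}) le_rfl
  rw [heq]
  refine le_trans (finrank_iSup_ppn_le hJ a1 a2) ?_
  rw [SSNum.finsum_eq (fun i j => stairZ J i j) B0 B1 m1 (stairZ_anti hJ) hz a1 a2]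

include hJ in
/-- the main bound on `T_{xy}` -/
theorem finrank_sigPiece_01_le (m1 : ∀ i j, stairZ J (i + 1) j ≤ stairZ J i (j + 1)) (B0 B1 : ℕ)
    (hz : ∀ i j, B0 ≤ i ∨ B1 ≤ j → stairZ J i j = 0) :
    Module.finrank k ↥(sigPiece J ({0, 1} : Set (Fin 3))) ≤
      ∑ i ∈ Finset.range B0, i * ∑ b ∈ Finset.range B1, stairZ J i b := by
  set h : ℕ → ℕ → ℕ := fun i j => stairZ J i j with hh
  set Pat : (Fin 3 → ℤ) → Prop := fun α => ∀ i, α i < 0 ↔ i ∈ ({0, 1} : Set (Fin 3)) with hPat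
  set proj : (Fin 3 → ℤ) → ℕ × ℕ := fun α => ((-α 0 - 1).toNat, (-α 1 - 1).toNat) with hproj
  set box : Finset (ℕ × ℕ) := Finset.range B0 ×ˢ Finset.range B1 with hbox
  set T : Finset (ℕ × ℕ) := box ∪ ((F0 hJ).filter Pat).image proj with hT
  set Q : ℕ × ℕ → (Fin 3 → ℤ) → Prop :=
    fun p α => α 0 = -(p.1 : ℤ) - 1 ∧ α 1 = -(p.2 : ℤ) - 1 with hQ
  set G : ℕ × ℕ → ℕ := fun p =>
    Module.finrank k ↥(⨆ α : {α : Fin 3 → ℤ // Q p α}, tPiece J α.1) with hG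
  set f : ℕ × ℕ → ℕ := fun p => ∑ i ∈ Finset.Ico p.1 B0, h i p.2 - h p.1 p.2 with hf
  have hGf : ∀ p, G p ≤ f p := by
    intro p
    have h1 := finrank_symm_two hJ p.1 p.2
    have h2 := finrank_pp_le hJ m1 B0 B1 hz p.1 p.2
    show Module.finrank k ↥(⨆ α : {α : Fin 3 → ℤ // α 0 = -(p.1 : ℤ) - 1 ∧ α 1 = -(p.2 : ℤ) - 1},
      tPiece J α.1) ≤ ∑ i ∈ Finset.Ico p.1 B0, stairZ J i p.2 - stairZ J p.1 p.2
    omega
  have hf0 : ∀ p ∈ T, p ∉ box → f p = 0 := by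
    intro p _ hp
    rw [hbox, Finset.mem_product, Finset.mem_range, Finset.mem_range, not_and_or] at hp
    show ∑ i ∈ Finset.Ico p.1 B0, stairZ J i p.2 - stairZ J p.1 p.2 = 0
    rcases hp with hp | hp
    · rw [Finset.Ico_eq_empty (by omega), Finset.sum_empty, Nat.zero_sub]
    · rw [Finset.sum_eq_zero (fun i _ => hz i p.2 (Or.inr (by omega))), Nat.zero_sub]
  have step1 : Module.finrank k ↥(sigPiece J ({0, 1} : Set (Fin 3))) ≤ ∑ p ∈ T, G p := by
    unfold sigPiece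
    rw [finrank_iSup_pred hJ]
    have hGsum : ∀ p, G p = ∑ α ∈ F0 hJ, @ite ℕ (Q p α) (Classical.propDecidable _) (fr J α) 0 :=
      fun p => finrank_iSup_pred hJ (Q p)
    rw [Finset.sum_congr rfl (fun p _ => hGsum p), Finset.sum_comm]
    refine Finset.sum_le_sum fun α hα => ?_
    by_cases hP : Pat α
    · rw [if_pos hP]
      have hmem : proj α ∈ T :=
        Finset.mem_union_right _ (Finset.mem_image_of_mem proj (Finset.mem_filter.2 ⟨hα, hP⟩))
      refine le_trans ?_ (Finset.single_le_sum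
        (f := fun p => @ite ℕ (Q p α) (Classical.propDecidable _) (fr J α) 0)
        (fun _ _ => Nat.zero_le _) hmem)
      have h0 : α 0 < 0 := (hP 0).2 (by simp)
      have h1 : α 1 < 0 := (hP 1).2 (by simp)
      have hq : Q (proj α) α := by
        show α 0 = -(((-α 0 - 1).toNat : ℕ) : ℤ) - 1 ∧ α 1 = -(((-α 1 - 1).toNat : ℕ) : ℤ) - 1
        constructor <;> omega
      show fr J α ≤ @ite ℕ (Q (proj α) α) (Classical.propDecidable _) (fr J α) 0
      rw [if_pos hq]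
    · rw [if_neg hP]; exact Nat.zero_le _
  calc Module.finrank k ↥(sigPiece J ({0, 1} : Set (Fin 3))) ≤ ∑ p ∈ T, G p := step1
    _ ≤ ∑ p ∈ T, f p := Finset.sum_le_sum fun p _ => hGf p
    _ = ∑ p ∈ box, f p := (Finset.sum_subset Finset.subset_union_left hf0).symm
    _ = ∑ a1 ∈ Finset.range B0, ∑ a2 ∈ Finset.range B1, f (a1, a2) := Finset.sum_product _ _ _
    _ = _ := SSNum.sum_box h B0 B1

end Groth.Agent.Lib.Helper6.Hilbpn
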