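import Mathlib

/-! Numeric lemmas for the slice inequality of strongly stable ideals. -/

open scoped Classical
set_option linter.unusedSectionVars false
set_option autoImplicit false
noncomputable section

namespace Groth.Agent.Lib.Helper6.Hilbpn.SliceNum

lemma choose_two_succ (n : ℕ) : (n + 2).choose 2 = (n + 1) + (n + 1).choose 2 := by
  rw [Nat.choose_succ_succ, Nat.choose_one_right]

lemma choose_three_succ (n : ℕ) : (n + 2).choose 3 = (n + 1).choose 2 + (n + 1).choose 3 := by
  rw [Nat.choose_succ_succ]

lemma sum_tsub_le (N z : ℕ) : ∑ b ∈ Finset.range N, (z - b) ≤ (z + 1).choose 2 := by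
  induction z generalizing N with
  | zero => simp
  | succ z ih =>
    cases N with
    | zero => simp
    | succ N =>
      rw [Finset.sum_range_succ', choose_two_succ]
      have h1 : ∑ b ∈ Finset.range N, (z + 1 - (b + 1)) = ∑ b ∈ Finset.range N, (z - b) := by
        refine Finset.sum_congr rfl fun b _ => ?_
        omega
      rw [h1]
      have := ih N
      omega

lemma sum_tsub_eq (N z : ℕ) (hN : z ≤ N) : ∑ b ∈ Finset.range N, (z - b) = (z + 1).choose 2 := by
  induction z generalizing N with
  | zero => simp
  | succ z ih =>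
    cases N with
    | zero => omega
    | succ N =>
      rw [Finset.sum_range_succ', choose_two_succ]
      have h1 : ∑ b ∈ Finset.range N, (z + 1 - (b + 1)) = ∑ b ∈ Finset.range N, (z - b) := by
        refine Finset.sum_congr rfl fun b _ => ?_
        omega
      rw [h1, ih N (by omega)]
      omega

lemma sum_Ico_choose (d j : ℕ) :
    ∑ i ∈ Finset.Ico j (j + d), (j + d - i + 1).choose 2 = (d + 2).choose 3 := by
  induction d generalizing j with
  | zero => simp
  | succ d ih =>
    rw [Finset.sum_eq_sum_Ico_succ_bot (by omega)]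
    have h1 : j + (d + 1) = (j + 1) + d := by omega
    rw [h1, ih (j + 1)]
    have h2 : j + 1 + d - j + 1 = d + 2 := by omega
    rw [h2, choose_three_succ (d + 1)]

section seq
variable (a z : ℕ → ℕ) (c1 : ∀ i, a (i + 1) + z i ≤ a i) (c2 : ∀ i, a i ≤ (z i + 1).choose 2)

include c1 in
lemma a_antitone (i j : ℕ) (h : i ≤ j) : a j ≤ a i := by
  induction j, h using Nat.le_induction with
  | base => exact le_rfl
  | succ j _ ih => exact le_trans (by have := c1 j; omega) ih

include c1 c2 in
lemma tailP (r : ℕ) : ∀ j M, a j ≤ (r + 1).choose 2 →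
    ∑ i ∈ Finset.Ico (j + 1) M, a i ≤ (r + 1).choose 3 := by
  induction r with
  | zero =>
    intro j M h
    have h0 : a j = 0 := by simpa using h
    have : ∑ i ∈ Finset.Ico (j + 1) M, a i = 0 := by
      refine Finset.sum_eq_zero fun i hi => ?_
      have := a_antitone a z c1 j i (by have := (Finset.mem_Ico.1 hi).1; omega)
      omega
    rw [this]; exact Nat.zero_le _
  | succ r ih =>
    intro j M h
    by_cases hs : a j ≤ (r + 1).choose 2
    · refine le_trans (ih j M hs) ?_
      exact Nat.choose_le_choose 3 (by omega)
    · push_neg at hs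
      have hz : r + 1 ≤ z j := by
        by_contra hcon
        push_neg at hcon
        have h2 := c2 j
        have : (z j + 1).choose 2 ≤ (r + 1).choose 2 := Nat.choose_le_choose 2 (by omega)
        omega
      have ha1 : a (j + 1) ≤ (r + 1).choose 2 := by
        have h3 := c1 j
        have h4 : (r + 1 + 1).choose 2 = (r + 1) + (r + 1).choose 2 := choose_two_succ r
        omega
      by_cases hM : M ≤ j + 1
      · rw [Finset.Ico_eq_empty (by omega), Finset.sum_empty]; exact Nat.zero_le _
      · push_neg at hM
        rw [Finset.sum_eq_sum_Ico_succ_bot hM]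
        have h5 := ih (j + 1) M ha1
        have h6 : (r + 1 + 1).choose 3 = (r + 1).choose 2 + (r + 1).choose 3 := choose_three_succ r
        omega

include c1 c2 in
/-- the tail bound -/
theorem tail_bound (r M : ℕ) (h0 : ∑ i ∈ Finset.Ico 0 M, a i ≤ (r + 2).choose 3) :
    ∀ j, j ≤ r → ∑ i ∈ Finset.Ico j M, a i ≤ (r - j + 2).choose 3 := by
  intro j
  induction j with
  | zero => intro _; simpa using h0
  | succ j ih =>
    intro hj
    have hT := ih (by omega)
    obtain ⟨r', hr'⟩ : ∃ r', r - j = r' + 1 := ⟨r - j - 1, by omega⟩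
    have e1 : r - (j + 1) + 2 = r' + 2 := by omega
    rw [hr'] at hT
    rw [e1]
    by_cases hM : M ≤ j
    · rw [Finset.Ico_eq_empty (by omega), Finset.sum_empty]; exact Nat.zero_le _
    · push_neg at hM
      rw [Finset.sum_eq_sum_Ico_succ_bot hM] at hT
      by_cases hs : a j ≤ (r' + 1 + 1).choose 2
      · exact tailP a z c1 c2 (r' + 1) j M hs
      · push_neg at hs
        have h6 : (r' + 1 + 2).choose 3 = (r' + 1 + 1).choose 2 + (r' + 2).choose 3 :=
          choose_three_succ (r' + 1)
        omega

end seq

end Groth.Agent.Lib.Helper6.Hilbpn.SliceNum
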