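import Mathlib
import Groth.Agent.Lib.Helper6.Hilbpn.SSNum
import Groth.Agent.Lib.Helper6.Hilbpn.SliceNum

/-! The weighted sum bound `∑ i · a_i ≤ C(r+2, 4)`. -/

open scoped Classical
set_option linter.unusedSectionVars false
set_option autoImplicit false
noncomputable section

namespace Groth.Agent.Lib.Helper6.Hilbpn.SSNum

lemma sum_choose_three (r : ℕ) :
    ∑ j ∈ Finset.range r, (r - j + 1).choose 3 = (r + 2).choose 4 := by
  induction r with
  | zero => decide
  | succ r ih =>
    rw [Finset.sum_range_succ']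
    have h1 : ∑ j ∈ Finset.range r, (r + 1 - (j + 1) + 1).choose 3 =
        ∑ j ∈ Finset.range r, (r - j + 1).choose 3 := by
      refine Finset.sum_congr rfl fun j _ => ?_
      congr 1
      omega
    rw [h1, ih]
    have h2 : r + 1 - 0 + 1 = r + 2 := by omega
    rw [h2]
    have h3 : (r + 1 + 2).choose 4 = (r + 2).choose 3 + (r + 2).choose 4 := by
      rw [show r + 1 + 2 = (r + 2) + 1 by omega, Nat.choose_succ_succ]
    omega

lemma weighted_le (a : ℕ → ℕ) (r M : ℕ) (hrM : r ≤ M)
    (T : ∀ j, j ≤ r → ∑ i ∈ Finset.Ico j M, a i ≤ (r - j + 2).choose 3) :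
    ∑ i ∈ Finset.range M, i * a i ≤ (r + 2).choose 4 ∧
    (∑ i ∈ Finset.range M, i * a i = (r + 2).choose 4 →
      ∀ j, 1 ≤ j → j ≤ r → ∑ i ∈ Finset.Ico j M, a i = (r - j + 2).choose 3) := by
  rw [← sum_tri a M]
  set c : ℕ → ℕ := fun j => if j + 1 ≤ r then (r - j + 1).choose 3 else 0 with hc
  have hS : ∀ j, ∑ i ∈ Finset.Ico (j + 1) M, a i ≤ c j := by
    intro j
    show _ ≤ if j + 1 ≤ r then (r - j + 1).choose 3 else 0
    by_cases hj : j + 1 ≤ r
    · rw [if_pos hj]
      have := T (j + 1) hj
      rw [show r - (j + 1) + 2 = r - j + 1 by omega] at this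
      exact this
    · rw [if_neg hj]
      have h1 := T r le_rfl
      rw [show r - r + 2 = 2 by omega] at h1
      have h2 : Nat.choose 2 3 = 0 := by decide
      rw [h2] at h1
      refine le_trans (Finset.sum_le_sum_of_subset ?_) h1
      intro i hi
      rw [Finset.mem_Ico] at hi ⊢
      omega
  have hcsum : ∑ j ∈ Finset.range M, c j = (r + 2).choose 4 := by
    rw [← sum_choose_three r]
    have hsub : Finset.range r ⊆ Finset.range M := Finset.range_subset_range.2 hrM
    rw [← Finset.sum_subset hsub]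
    · refine Finset.sum_congr rfl fun j hj => ?_
      show (if j + 1 ≤ r then (r - j + 1).choose 3 else 0) = _
      rw [if_pos (by have := Finset.mem_range.1 hj; omega)]
    · intro j _ hj
      show (if j + 1 ≤ r then (r - j + 1).choose 3 else 0) = 0
      rw [if_neg (by rw [Finset.mem_range] at hj; omega)]
  refine ⟨?_, fun heq j hj1 hjr => ?_⟩
  · rw [← hcsum]
    exact Finset.sum_le_sum fun j _ => hS j
  · rw [← hcsum] at heq
    have h1 := (Finset.sum_eq_sum_iff_of_le (fun j _ => hS j)).1 heq (j - 1)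
      (Finset.mem_range.2 (by omega))
    rw [show j - 1 + 1 = j by omega] at h1
    rw [h1]
    show (if j - 1 + 1 ≤ r then (r - (j - 1) + 1).choose 3 else 0) = _
    rw [if_pos (by omega)]
    congr 1
    omega

end Groth.Agent.Lib.Helper6.Hilbpn.SSNum
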