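import Mathlib
import Groth.Prelude.Def_W4c1hilbpnTgt
import Groth.Agent.Lib.Helper6.Hilbpn.Basic

/-! Slices `I_a ⊆ k[y,z]` of an ideal of `k[x,y,z]`. -/

open scoped Classical
set_option linter.unusedSectionVars false
set_option autoImplicit false
noncomputable section

namespace Groth.Agent.Lib.Helper6.Hilbpn
open MvPolynomial W4c1hilbpn

variable {k : Type*} [Field k]

/-- the exponent `(a, β)` -/
def iota (a : ℕ) (β : Fin 2 →₀ ℕ) : Fin 3 →₀ ℕ :=
  Finsupp.mapDomain Fin.succ β + Finsupp.single 0 a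

@[simp] lemma iota_zero (a : ℕ) (β : Fin 2 →₀ ℕ) : iota a β 0 = a := by
  unfold iota
  rw [Finsupp.add_apply, Finsupp.mapDomain_of_notMem_range, Finsupp.single_eq_same, zero_add]
  rintro ⟨x, hx⟩
  exact Fin.succ_ne_zero x hx

@[simp] lemma iota_succ (a : ℕ) (β : Fin 2 →₀ ℕ) (x : Fin 2) : iota a β x.succ = β x := by
  unfold iota
  rw [Finsupp.add_apply, Finsupp.mapDomain_apply (Fin.succ_injective 2),
    Finsupp.single_eq_of_ne (Fin.succ_ne_zero x), add_zero]

lemma iota_injective (a : ℕ) : Function.Injective (iota a) := by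
  intro β β' h
  ext x
  have := DFunLike.congr_fun h x.succ
  simpa using this

lemma rename_monomial_mul (a : ℕ) (β : Fin 2 →₀ ℕ) (c : k) :
    rename Fin.succ (monomial β c) * (X 0 : MvPolynomial (Fin 3) k) ^ a = monomial (iota a β) c := by
  rw [rename_monomial, X_pow_eq_monomial, monomial_mul, mul_one]
  rfl

variable {I : Ideal (MvPolynomial (Fin 3) k)}

lemma mem_sliceX {a : ℕ} {f : MvPolynomial (Fin 2) k} :
    f ∈ sliceX I a ↔ rename Fin.succ f * (X 0 : MvPolynomial (Fin 3) k) ^ a ∈ I := by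
  unfold sliceX
  rw [Ideal.mem_comap, Submodule.mem_colon_singleton]
  rfl

lemma mem_exps_sliceX {a : ℕ} {β : Fin 2 →₀ ℕ} : β ∈ exps (sliceX I a) ↔ iota a β ∈ exps I := by
  show monomial β (1:k) ∈ sliceX I a ↔ _
  rw [mem_sliceX, rename_monomial_mul]
  rfl

lemma rename_mul_eq_sum (a : ℕ) (f : MvPolynomial (Fin 2) k) :
    rename Fin.succ f * (X 0 : MvPolynomial (Fin 3) k) ^ a =
      ∑ β ∈ f.support, monomial (iota a β) (coeff β f) := by
  conv_lhs => rw [f.as_sum, map_sum, Finset.sum_mul]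
  exact Finset.sum_congr rfl fun β _ => rename_monomial_mul a β _

lemma coeff_rename_mul (a : ℕ) (f : MvPolynomial (Fin 2) k) (β : Fin 2 →₀ ℕ) :
    coeff (iota a β) (rename Fin.succ f * (X 0 : MvPolynomial (Fin 3) k) ^ a) = coeff β f := by
  rw [rename_mul_eq_sum, coeff_sum]
  simp only [coeff_monomial]
  rw [Finset.sum_eq_single β]
  · rw [if_pos rfl]
  · intro b _ hb
    rw [if_neg (fun h => hb (iota_injective a h))]
  · intro h
    rw [if_pos rfl]
    exact notMem_support_iff.1 h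

lemma isMonomial_sliceX (hI : IsMonomial I) (a : ℕ) : IsMonomial (sliceX I a) := by
  intro f hf β hβ
  rw [mem_sliceX] at hf
  show β ∈ exps (sliceX I a)
  rw [mem_exps_sliceX]
  refine hI _ hf _ ?_
  rw [mem_support_iff, coeff_rename_mul]
  exact mem_support_iff.1 hβ

lemma mem_sliceX_iff (hI : IsMonomial I) (a : ℕ) (f : MvPolynomial (Fin 2) k) :
    f ∈ sliceX I a ↔ ∀ β ∈ f.support, iota a β ∈ exps I := by
  rw [IsMonomial.mem_iff (isMonomial_sliceX hI a)]
  simp only [mem_exps_sliceX]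

lemma iota_exchange (a : ℕ) (β : Fin 2 →₀ ℕ) (i j : Fin 2) (hj : 0 < β j) :
    iota a (β - Finsupp.single j 1 + Finsupp.single i 1) =
      iota a β - Finsupp.single j.succ 1 + Finsupp.single i.succ 1 := by
  ext x
  refine Fin.cases ?_ (fun y => ?_) x
  · simp only [iota_zero, Finsupp.coe_add, Finsupp.coe_tsub, Pi.add_apply, Pi.sub_apply]
    rw [Finsupp.single_eq_of_ne (Fin.succ_ne_zero j).symm, Finsupp.single_eq_of_ne (Fin.succ_ne_zero i).symm]
    simp
  · simp only [iota_succ, Finsupp.coe_add, Finsupp.coe_tsub, Pi.add_apply, Pi.sub_apply,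
      Finsupp.single_apply, Fin.succ_inj]

theorem isStronglyStable_sliceX (hI : IsStronglyStable I) (a : ℕ) :
    IsStronglyStable (sliceX I a) := by
  refine ⟨isMonomial_sliceX hI.1 a, ?_⟩
  intro β hβ i j hij hj
  rw [mem_exps_sliceX] at hβ ⊢
  rw [iota_exchange a β i j hj]
  refine hI.2 _ hβ i.succ j.succ (Fin.succ_lt_succ_iff.2 hij) ?_
  rw [iota_succ]; exact hj

lemma iota_add_single_zero (a : ℕ) (β : Fin 2 →₀ ℕ) :
    iota a (β + Finsupp.single 0 1) = iota a β + Finsupp.single 1 1 := by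
  ext x
  refine Fin.cases ?_ (fun y => ?_) x
  · simp only [iota_zero, Finsupp.coe_add, Pi.add_apply]
    rw [Finsupp.single_eq_of_ne (by decide : (0 : Fin 3) ≠ 1), add_zero]
  · simp only [iota_succ, Finsupp.coe_add, Pi.add_apply]
    have : (1 : Fin 3) = (0 : Fin 2).succ := rfl
    rw [this]
    simp only [Finsupp.single_apply, Fin.succ_inj]

lemma iota_succ_eq (a : ℕ) (β : Fin 2 →₀ ℕ) :
    iota (a + 1) β = iota a β + Finsupp.single 1 1 - Finsupp.single 1 1 + Finsupp.single 0 1 := by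
  rw [add_tsub_cancel_right]
  unfold iota
  rw [add_assoc, ← Finsupp.single_add]

theorem colon_sliceX_le (hI : IsStronglyStable I) (a : ℕ) :
    (sliceX I a).colon {(X 0 : MvPolynomial (Fin 2) k)} ≤ sliceX I (a + 1) := by
  intro f hf
  rw [Submodule.mem_colon_singleton, smul_eq_mul, mem_sliceX_iff hI.1] at hf
  rw [mem_sliceX_iff hI.1]
  intro β hβ
  have h1 : β + Finsupp.single 0 1 ∈ (f * X 0).support := by
    rw [mem_support_iff, coeff_mul_X]
    exact mem_support_iff.1 hβ
  have h2 := hf _ h1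
  rw [iota_add_single_zero] at h2
  rw [iota_succ_eq]
  refine hI.2 _ h2 0 1 (by decide) ?_
  simp

end Groth.Agent.Lib.Helper6.Hilbpn
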