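import Mathlib
import Groth.Prelude.Def_W4c1hilbpnTgt
import Groth.Agent.Lib.Helper6.Hilbpn.Slice
import Groth.Agent.Lib.Helper6.Hilbpn.Stair
import Groth.Agent.Lib.Helper6.Hilbpn.SliceNum
import Groth.Agent.Lib.Helper6.Hilbpn.PowVars
import Groth.Agent.Lib.Helper6.Hilbpn.Kz.QBasis

/-! The slice inequality for strongly stable ideals of `k[x,y,z]`. -/

open scoped Classical
set_option linter.unusedSectionVars false
set_option autoImplicit false
noncomputable section

namespace Groth.Agent.Lib.Helper6.Hilbpn
open MvPolynomial W4c1hilbpn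

variable {k : Type*} [Field k]
variable {I : Ideal (MvPolynomial (Fin 3) k)}

lemma e3_exch01 (i b c : ℕ) :
    e3 i (b + 1) c - Finsupp.single 1 1 + Finsupp.single 0 1 = e3 (i + 1) b c := by
  apply e3_ext
  · simp [Finsupp.single_apply]
  · simp [Finsupp.single_apply]
  · simp [Finsupp.single_apply]

lemma e3_exch12 (i b c : ℕ) :
    e3 i b (c + 1) - Finsupp.single 2 1 + Finsupp.single 1 1 = e3 i (b + 1) c := by
  apply e3_ext
  · simp [Finsupp.single_apply]
  · simp [Finsupp.single_apply]
  · simp [Finsupp.single_apply]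

lemma e3_le_of {a b c : ℕ} {β : Fin 3 →₀ ℕ} (h0 : a ≤ β 0) (h1 : b ≤ β 1) (h2 : c ≤ β 2) :
    e3 a b c ≤ β := by
  intro i
  fin_cases i
  · exact h0
  · exact h1
  · exact h2

lemma iota_eq_e3 (i : ℕ) (β : Fin 2 →₀ ℕ) : iota i β = e3 i (β 0) (β 1) := by
  apply e3_ext
  · simp
  · have : (1 : Fin 3) = (0 : Fin 2).succ := rfl
    rw [this, iota_succ]; simp
  · have : (2 : Fin 3) = (1 : Fin 2).succ := rfl
    rw [this, iota_succ]; simp

section ss
variable (hI : IsStronglyStable I) [Module.Finite k (MvPolynomial (Fin 3) k ⧸ I)]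

include hI in
lemma stairZ_succ_le (i b : ℕ) : stairZ I (i + 1) b ≤ stairZ I i (b + 1) := by
  by_contra hcon
  push_neg at hcon
  have h1 := (not_mem_iff_lt_stairZ hI.1 (i + 1) b _).2 hcon
  have h2 : e3 i (b + 1) (stairZ I i (b + 1)) ∈ exps I := by
    by_contra h
    exact absurd ((not_mem_iff_lt_stairZ hI.1 i (b + 1) _).1 h) (lt_irrefl _)
  have h3 := hI.2 _ h2 0 1 (by decide) (by simp)
  rw [e3_exch01] at h3
  exact h1 h3

include hI in
lemma stairZ_succ_lt (i b : ℕ) (h : stairZ I i (b + 1) ≠ 0) :
    stairZ I i (b + 1) + 1 ≤ stairZ I i b := by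
  by_contra hcon
  push_neg at hcon
  obtain ⟨c, hc⟩ : ∃ c, stairZ I i (b + 1) = c + 1 := ⟨stairZ I i (b + 1) - 1, by omega⟩
  have h1 : e3 i (b + 1) c ∉ exps I := (not_mem_iff_lt_stairZ hI.1 i (b + 1) c).2 (by omega)
  have h2 : e3 i b (c + 1) ∈ exps I := by
    by_contra h
    have := (not_mem_iff_lt_stairZ hI.1 i b (c + 1)).1 h
    omega
  have h3 := hI.2 _ h2 1 2 (by decide) (by simp)
  rw [e3_exch12] at h3
  exact h1 h3

include hI in
lemma stairZ_le_tsub (i b : ℕ) : stairZ I i b ≤ stairZ I i 0 - b := by
  induction b with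
  | zero => simp
  | succ b ih =>
    by_cases h : stairZ I i (b + 1) = 0
    · rw [h]; exact Nat.zero_le _
    · have := stairZ_succ_lt hI i b h
      omega

include hI in
lemma mem_exps_exch (p n : ℕ) (h : e3 p 0 n ∈ exps I) : ∀ q, q ≤ n → e3 p q (n - q) ∈ exps I := by
  intro q
  induction q with
  | zero => intro _; simpa using h
  | succ q ih =>
    intro hq
    have h1 := ih (by omega)
    have e : n - q = (n - (q + 1)) + 1 := by omega
    rw [e] at h1
    have h3 := hI.2 _ h1 1 2 (by decide) (by simp)
    rw [e3_exch12] at h3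
    exact h3

include hI in
/-- colength of a slice as a sum of staircase numbers -/
lemma finrank_sliceX (i Bd : ℕ) (hBd : ∀ b, Bd ≤ b → stairZ I i b = 0) :
    Module.finrank k (MvPolynomial (Fin 2) k ⧸ sliceX I i) =
      ∑ b ∈ Finset.range Bd, stairZ I i b := by
  rw [Module.finrank_eq_nat_card_basis (stdBasis (isMonomial_sliceX hI.1 i))]
  set F : Finset (Σ _ : ℕ, ℕ) := (Finset.range Bd).sigma (fun b => Finset.range (stairZ I i b)) with hF
  have hcard : F.card = ∑ b ∈ Finset.range Bd, stairZ I i b := by
    rw [hF, Finset.card_sigma]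
    simp
  have hmem : ∀ β : Fin 2 →₀ ℕ, β ∉ exps (sliceX I i) ↔ β 1 < stairZ I i (β 0) := by
    intro β
    rw [mem_exps_sliceX, iota_eq_e3, not_mem_iff_lt_stairZ hI.1]
  let e : Std (sliceX I i) ≃ ↥F :=
    { toFun := fun β => ⟨⟨β.1 0, β.1 1⟩, by
        have h := (hmem β.1).1 β.2
        rw [hF, Finset.mem_sigma, Finset.mem_range, Finset.mem_range]
        refine ⟨?_, h⟩
        by_contra hcon
        push_neg at hcon
        rw [hBd _ hcon] at h
        exact Nat.not_lt_zero _ h⟩
      invFun := fun s => ⟨Finsupp.equivFunOnFinite.symm ![s.1.1, s.1.2], by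
        have h := Finset.mem_sigma.1
          (show s.1 ∈ (Finset.range Bd).sigma (fun b => Finset.range (stairZ I i b)) from s.2)
        rw [Finset.mem_range, Finset.mem_range] at h
        rw [hmem]
        simpa using h.2⟩
      left_inv := fun β => by
        apply Subtype.ext
        ext x
        fin_cases x <;> simp
      right_inv := fun s => by
        apply Subtype.ext
        rcases s with ⟨⟨a, b⟩, hs⟩
        simp }
  rw [Nat.card_congr e, Nat.card_eq_fintype_card, Fintype.card_coe, hcard]

include hI in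
lemma sum_finrank_sliceX_le (r : ℕ) :
    ∑ i ∈ Finset.range r, Module.finrank k (MvPolynomial (Fin 2) k ⧸ sliceX I i) ≤
      Module.finrank k (MvPolynomial (Fin 3) k ⧸ I) := by
  haveI := finite_std (k := k) hI.1
  rw [Module.finrank_eq_nat_card_basis (stdBasis hI.1)]
  have h1 : ∀ i, Module.finrank k (MvPolynomial (Fin 2) k ⧸ sliceX I i) =
      Nat.card (Std (sliceX I i)) := fun i =>
    Module.finrank_eq_nat_card_basis (stdBasis (isMonomial_sliceX hI.1 i))
  simp only [h1]
  let f : (Σ i : Fin r, Std (sliceX I i.1)) → Std I :=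
    fun s => ⟨iota s.1.1 s.2.1, fun h => s.2.2 (mem_exps_sliceX.2 h)⟩
  have hf : Function.Injective f := by
    rintro ⟨i, β⟩ ⟨i', β'⟩ h
    have h' : iota i.1 β.1 = iota i'.1 β'.1 := congrArg Subtype.val h
    have hi : i = i' := by
      apply Fin.ext
      have := DFunLike.congr_fun h' 0
      simpa using this
    subst hi
    have hβ : β = β' := Subtype.ext (iota_injective _ h')
    rw [hβ]
  haveI : ∀ i : Fin r, Finite (Std (sliceX I i.1)) := by
    intro i
    refine Finite.of_injective (fun β : Std (sliceX I i.1) =>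
      (⟨iota i.1 β.1, fun h => β.2 (mem_exps_sliceX.2 h)⟩ : Std I)) ?_
    intro β β' h
    exact Subtype.ext (iota_injective _ (congrArg Subtype.val h))
  have h2 := Nat.card_le_card_of_injective f hf
  rw [Nat.card_sigma] at h2
  rw [← Fin.sum_univ_eq_sum_range (fun i => Nat.card (Std (sliceX I i))) r]
  exact h2

include hI in
/-- the slice inequality -/
theorem slice_inequality (r : ℕ)
    (hd : Module.finrank k (MvPolynomial (Fin 3) k ⧸ I) ≤ Nat.choose (r + 2) 3) :
    (∀ j, j ≤ r → ∑ i ∈ Finset.Ico j r, Module.finrank k (MvPolynomial (Fin 2) k ⧸ sliceX I i) ≤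
        ∑ i ∈ Finset.Ico j r, Nat.choose (r - i + 1) 2) ∧
    ((∀ j, j < r → ∑ i ∈ Finset.Ico j r, Module.finrank k (MvPolynomial (Fin 2) k ⧸ sliceX I i) =
        ∑ i ∈ Finset.Ico j r, Nat.choose (r - i + 1) 2) → I = mpow (Fin 3) k r) := by
  obtain ⟨B0, hB0⟩ := exists_bound hI.1 (0 : Fin 3)
  obtain ⟨B1, hB1⟩ := exists_bound hI.1 (1 : Fin 3)
  set Bd := max B1 r with hBddef
  have hBd : ∀ i b, Bd ≤ b → stairZ I i b = 0 := by
    intro i b hb
    exact stairZ_eq_zero_of_bound hI.1 hB0 hB1 i b (Or.inr (le_trans (le_max_left _ _) hb))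
  set a : ℕ → ℕ := fun i => Module.finrank k (MvPolynomial (Fin 2) k ⧸ sliceX I i) with ha
  set z : ℕ → ℕ := fun i => stairZ I i 0 with hz
  have hasum : ∀ i, a i = ∑ b ∈ Finset.range Bd, stairZ I i b := fun i =>
    finrank_sliceX hI i Bd (hBd i)
  have c1 : ∀ i, a (i + 1) + z i ≤ a i := by
    intro i
    rw [hasum, hasum]
    have h1 : ∑ b ∈ Finset.range Bd, stairZ I (i + 1) b ≤ ∑ b ∈ Finset.range Bd, stairZ I i (b + 1) :=
      Finset.sum_le_sum fun b _ => stairZ_succ_le hI i b
    have h2 : ∑ b ∈ Finset.range (Bd + 1), stairZ I i b =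
        ∑ b ∈ Finset.range Bd, stairZ I i (b + 1) + stairZ I i 0 := Finset.sum_range_succ' _ _
    have h3 : ∑ b ∈ Finset.range (Bd + 1), stairZ I i b =
        ∑ b ∈ Finset.range Bd, stairZ I i b + stairZ I i Bd := Finset.sum_range_succ _ _
    rw [hBd i Bd le_rfl, add_zero] at h3
    show _ + stairZ I i 0 ≤ _
    omega
  have c2 : ∀ i, a i ≤ (z i + 1).choose 2 := by
    intro i
    rw [hasum]
    refine le_trans (Finset.sum_le_sum fun b _ => stairZ_le_tsub hI i b) ?_
    exact SliceNum.sum_tsub_le Bd (z i)
  have h0 : ∑ i ∈ Finset.Ico 0 r, a i ≤ (r + 2).choose 3 := by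
    rw [← Finset.range_eq_Ico]
    exact le_trans (sum_finrank_sliceX_le hI r) hd
  have hchoose : ∀ j, j ≤ r → ∑ i ∈ Finset.Ico j r, Nat.choose (r - i + 1) 2 = (r - j + 2).choose 3 := by
    intro j hj
    have := SliceNum.sum_Ico_choose (r - j) j
    rw [show j + (r - j) = r by omega] at this
    exact this
  refine ⟨fun j hj => ?_, fun heq => ?_⟩
  · rw [hchoose j hj]
    exact SliceNum.tail_bound a z c1 c2 r r h0 j hj
  · -- the equality case
    rcases Nat.eq_zero_or_pos r with hr0 | hrpos
    · subst hr0
      have h1 : Module.finrank k (MvPolynomial (Fin 3) k ⧸ I) = 0 := by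
        have : Nat.choose (0 + 2) 3 = 0 := by decide
        omega
      haveI : Subsingleton (MvPolynomial (Fin 3) k ⧸ I) := Module.finrank_zero_iff.1 h1
      have : I = ⊤ := Ideal.Quotient.subsingleton_iff.1 inferInstance
      rw [this]
      symm
      show (Ideal.span (Set.range (X : Fin 3 → MvPolynomial (Fin 3) k))) ^ 0 = ⊤
      rw [pow_zero, Ideal.one_eq_top]
    -- values of `a`
    have heq' : ∀ j, j < r → ∑ i ∈ Finset.Ico j r, a i = (r - j + 2).choose 3 := by
      intro j hj
      rw [← hchoose j hj.le]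
      exact heq j hj
    have ea : ∀ i, i < r → a i = (r - i + 1).choose 2 := by
      intro i hi
      have h1 := heq' i hi
      rw [Finset.sum_eq_sum_Ico_succ_bot hi] at h1
      have h3 : (r - i + 2).choose 3 = (r - i + 1).choose 2 + (r - i + 1).choose 3 :=
        SliceNum.choose_three_succ (r - i)
      by_cases hi' : i + 1 < r
      · have h2 := heq' (i + 1) hi'
        have e : r - (i + 1) + 2 = r - i + 1 := by omega
        rw [e] at h2
        omega
      · have : Finset.Ico (i + 1) r = ∅ := Finset.Ico_eq_empty (by omega)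
        rw [this, Finset.sum_empty] at h1
        have e : r - i = 1 := by omega
        rw [e] at h1 h3 ⊢
        have e2 : Nat.choose (1 + 1) 3 = 0 := by decide
        omega
    have ez : ∀ i, i ≤ r → z i ≤ r - i := by
      intro i hi
      rcases Nat.lt_or_ge i r with hlt | hge
      · by_cases hi' : i + 1 < r
        · have h1 := c1 i
          rw [ea i hlt, ea (i + 1) hi'] at h1
          have h2 : r - i + 1 = (r - (i + 1) + 1) + 1 := by omega
          rw [h2, SliceNum.choose_two_succ] at h1
          omega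
        · have h1 := c1 i
          rw [ea i hlt] at h1
          have h2 : r - i + 1 = 2 := by omega
          rw [h2] at h1
          have : Nat.choose 2 2 = 1 := by decide
          omega
      · have hir : i = r := le_antisymm hi hge
        subst hir
        -- a r = 0
        have hlt : i - 1 < i := by omega
        have h1 := c1 (i - 1)
        have h2 := c2 (i - 1)
        rw [ea (i - 1) hlt] at h1 h2
        have h3 : i - (i - 1) + 1 = 2 := by omega
        rw [h3] at h1 h2
        have h4 : Nat.choose 2 2 = 1 := by decide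
        have h5 : 1 ≤ z (i - 1) := by
          by_contra hcon
          push_neg at hcon
          have : z (i - 1) = 0 := by omega
          rw [this] at h2
          have : Nat.choose (0 + 1) 2 = 0 := by decide
          omega
        have h6 : a (i - 1 + 1) = 0 := by omega
        rw [show i - 1 + 1 = i by omega] at h6
        have h7 := c1 i
        omega
    have hmemI : ∀ p, p ≤ r → e3 p 0 (r - p) ∈ exps I := by
      intro p hp
      by_contra h
      have h1 := (not_mem_iff_lt_stairZ hI.1 p 0 (r - p)).1 h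
      have h2 : stairZ I p 0 ≤ r - p := ez p hp
      omega
    have hge : ∀ β : Fin 3 →₀ ℕ, r ≤ β.degree → β ∈ exps I := by
      intro β hβ
      have hdeg : β.degree = β 0 + β 1 + β 2 := by
        rw [Finsupp.degree_eq_sum, Fin.sum_univ_three]
      rw [hdeg] at hβ
      by_cases h0 : r ≤ β 0
      · refine exps_of_le (hmemI r le_rfl) ?_
        rw [Nat.sub_self]
        exact e3_le_of h0 (Nat.zero_le _) (Nat.zero_le _)
      · push_neg at h0
        by_cases h1 : r ≤ β 0 + β 1
        · have h2 := mem_exps_exch hI (β 0) (r - β 0) (hmemI _ h0.le) (r - β 0) le_rfl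
          rw [Nat.sub_self] at h2
          refine exps_of_le h2 ?_
          exact e3_le_of le_rfl (by omega) (Nat.zero_le _)
        · push_neg at h1
          have h2 := mem_exps_exch hI (β 0) (r - β 0) (hmemI _ h0.le) (β 1) (by omega)
          refine exps_of_le h2 ?_
          exact e3_le_of le_rfl le_rfl (by omega)
    have hlt : ∀ β : Fin 3 →₀ ℕ, β.degree < r → β ∉ exps I := by
      intro β hβ
      have hdeg : β.degree = β 0 + β 1 + β 2 := by
        rw [Finsupp.degree_eq_sum, Fin.sum_univ_three]
      rw [hdeg] at hβ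
      set p := β 0 with hp
      have hpr : p < r := by omega
      -- termwise equality of the staircase
      have hle : ∀ b ∈ Finset.range Bd, stairZ I p b ≤ (r - p) - b := by
        intro b _
        have h1 := stairZ_le_tsub hI p b
        have h2 := ez p hpr.le
        show stairZ I p b ≤ _
        have : stairZ I p 0 ≤ r - p := h2
        omega
      have hsum : ∑ b ∈ Finset.range Bd, stairZ I p b = ∑ b ∈ Finset.range Bd, ((r - p) - b) := by
        rw [← hasum p, ea p hpr, SliceNum.sum_tsub_eq Bd (r - p) (by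
          have := le_max_right B1 r
          omega)]
      have hterm := (Finset.sum_eq_sum_iff_of_le hle).1 hsum
      have hq : β 1 ∈ Finset.range Bd := by
        rw [Finset.mem_range]
        have := le_max_right B1 r
        omega
      have h3 := hterm (β 1) hq
      rw [eq_e3 β, not_mem_iff_lt_stairZ hI.1, h3]
      omega
    -- conclude
    ext f
    rw [IsMonomial.mem_iff hI.1, IsMonomial.mem_iff (isMonomial_mpow r)]
    refine forall_congr' fun β => forall_congr' fun _ => ?_
    rw [mem_exps_mpow]
    constructor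
    · intro h
      by_contra hcon
      exact hlt β (not_le.1 hcon) h
    · exact hge β

end ss

end Groth.Agent.Lib.Helper6.Hilbpn
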