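import Mathlib
import Groth.Prelude.Def_W4c1hilbpnTgt
import Groth.Agent.Lib.Helper6.Hilbpn.SSBound
import Groth.Agent.Lib.Helper6.Hilbpn.SSNum2
import Groth.Agent.Lib.Helper6.Hilbpn.SliceIneq
import Groth.Agent.Lib.Helper6.Hilbpn.Perm
import Groth.Agent.Lib.Helper6.Hilbpn.PowThree

/-! Bounds for `T_{xy}` and `T_{xz}` of strongly stable ideals of `k[x,y,z]`. -/

open scoped Classical
set_option linter.unusedSectionVars false
set_option autoImplicit false
noncomputable section

namespace Groth.Agent.Lib.Helper6.Hilbpn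
open MvPolynomial W4c1hilbpn

variable {k : Type*} [Field k]

/-- number of standard monomials with given x-exponent -/
def AA (J : Ideal (MvPolynomial (Fin 3) k)) (i : ℕ) : ℕ :=
  Nat.card {p : ℕ × ℕ // e3 i p.1 p.2 ∉ exps J}

section monomial
variable {J : Ideal (MvPolynomial (Fin 3) k)} (hJ : IsMonomial J)
variable [Module.Finite k (MvPolynomial (Fin 3) k ⧸ J)]

include hJ in
lemma sum_stairZ_eq_AA (i B : ℕ) (hB : ∀ b, B ≤ b → stairZ J i b = 0) :
    ∑ b ∈ Finset.range B, stairZ J i b = AA J i := by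
  set F : Finset (Σ _ : ℕ, ℕ) := (Finset.range B).sigma (fun b => Finset.range (stairZ J i b)) with hF
  have hcard : F.card = ∑ b ∈ Finset.range B, stairZ J i b := by
    rw [hF, Finset.card_sigma]
    simp
  let e : {p : ℕ × ℕ // e3 i p.1 p.2 ∉ exps J} ≃ ↥F :=
    { toFun := fun p => ⟨⟨p.1.1, p.1.2⟩, by
        have h := (not_mem_iff_lt_stairZ hJ i p.1.1 p.1.2).1 p.2
        rw [hF, Finset.mem_sigma, Finset.mem_range, Finset.mem_range]
        refine ⟨?_, h⟩
        by_contra hcon
        push_neg at hcon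
        rw [hB _ hcon] at h
        exact Nat.not_lt_zero _ h⟩
      invFun := fun s => ⟨(s.1.1, s.1.2), by
        have h := Finset.mem_sigma.1
          (show s.1 ∈ (Finset.range B).sigma (fun b => Finset.range (stairZ J i b)) from s.2)
        rw [Finset.mem_range, Finset.mem_range] at h
        exact (not_mem_iff_lt_stairZ hJ i _ _).2 h.2⟩
      left_inv := fun p => by
        apply Subtype.ext
        rfl
      right_inv := fun s => by
        apply Subtype.ext
        rcases s with ⟨⟨a, b⟩, hs⟩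
        rfl }
  unfold AA
  rw [Nat.card_congr e, Nat.card_eq_fintype_card, Fintype.card_coe, hcard]

include hJ in
lemma finrank_quot_eq_sum_AA (M : ℕ) (hM : ∀ w : Fin 3 →₀ ℕ, w ∉ exps J → w 0 < M) :
    Module.finrank k (MvPolynomial (Fin 3) k ⧸ J) = ∑ i ∈ Finset.range M, AA J i := by
  haveI := finite_std (k := k) hJ
  rw [Module.finrank_eq_nat_card_basis (stdBasis hJ)]
  let f : Std J → Fin M := fun w => ⟨w.1 0, hM w.1 w.2⟩
  rw [← Nat.card_congr (Equiv.sigmaFiberEquiv f), Nat.card_sigma,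
    ← Fin.sum_univ_eq_sum_range (fun i => AA J i) M]
  refine Finset.sum_congr rfl fun i _ => ?_
  unfold AA
  apply Nat.card_congr
  exact
    { toFun := fun w => ⟨(w.1.1 1, w.1.1 2), by
        have h0 : w.1.1 0 = i.1 := congrArg Fin.val w.2
        have : e3 i.1 (w.1.1 1) (w.1.1 2) = w.1.1 :=
          e3_ext (by rw [e3_zero, h0]) (by rw [e3_one]) (by rw [e3_two])
        show e3 i.1 (w.1.1 1) (w.1.1 2) ∉ exps J
        rw [this]
        exact w.1.2⟩
      invFun := fun p => ⟨⟨e3 i.1 p.1.1 p.1.2, p.2⟩, by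
        apply Fin.ext
        show (e3 i.1 p.1.1 p.1.2) 0 = i.1
        exact e3_zero _ _ _⟩
      left_inv := fun w => by
        apply Subtype.ext
        apply Subtype.ext
        have h0 : w.1.1 0 = i.1 := congrArg Fin.val w.2
        exact e3_ext (by rw [e3_zero, h0]) (by rw [e3_one]) (by rw [e3_two])
      right_inv := fun p => by
        apply Subtype.ext
        show ((e3 i.1 p.1.1 p.1.2) 1, (e3 i.1 p.1.1 p.1.2) 2) = p.1
        rw [e3_one, e3_two] }

end monomial

section swap
variable {I : Ideal (MvPolynomial (Fin 3) k)}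

/-- the transposition of `y` and `z` -/
def sw : Fin 3 ≃ Fin 3 := Equiv.swap 1 2

lemma sw_zero : sw 0 = 0 := by decide
lemma sw_one : sw 1 = 2 := by decide
lemma sw_two : sw 2 = 1 := by decide

lemma mapDomain_sw_apply (w : Fin 3 →₀ ℕ) (l : Fin 3) : (w.mapDomain sw.symm) l = w (sw l) := by
  rw [Finsupp.mapDomain_equiv_apply, Equiv.symm_symm]

lemma mapDomain_sw_e3 (a b c : ℕ) : (e3 a b c).mapDomain sw.symm = e3 a c b := by
  apply e3_ext
  · rw [mapDomain_sw_apply, sw_zero]; rfl
  · rw [mapDomain_sw_apply, sw_one]; rfl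
  · rw [mapDomain_sw_apply, sw_two]; rfl

lemma mem_exps_sw {a b c : ℕ} : e3 a b c ∈ exps (permI sw I) ↔ e3 a c b ∈ exps I := by
  rw [mem_exps_permI, mapDomain_sw_e3]

lemma AA_sw (i : ℕ) : AA (permI sw I) i = AA I i := by
  unfold AA
  apply Nat.card_congr
  exact
    { toFun := fun p => ⟨(p.1.2, p.1.1), fun h => p.2 (mem_exps_sw.2 h)⟩
      invFun := fun p => ⟨(p.1.2, p.1.1), fun h => p.2 (mem_exps_sw.1 h)⟩
      left_inv := fun p => rfl
      right_inv := fun p => rfl }

lemma e3_exch02 (i b c : ℕ) :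
    e3 i b (c + 1) - Finsupp.single 2 1 + Finsupp.single 0 1 = e3 (i + 1) b c := by
  apply e3_ext
  · simp [Finsupp.single_apply]
  · simp [Finsupp.single_apply]
  · simp [Finsupp.single_apply]

lemma stairZ_sw_succ_le (hI : IsStronglyStable I) [Module.Finite k (MvPolynomial (Fin 3) k ⧸ I)]
    (i j : ℕ) : stairZ (permI sw I) (i + 1) j ≤ stairZ (permI sw I) i (j + 1) := by
  haveI := finite_quot_permI sw I
  have hJ := isMonomial_permI (e := sw) hI.1
  by_contra hcon
  push_neg at hcon
  have h1 := (not_mem_iff_lt_stairZ hJ (i + 1) j _).2 hcon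
  have h2 : e3 i (j + 1) (stairZ (permI sw I) i (j + 1)) ∈ exps (permI sw I) := by
    by_contra h
    exact absurd ((not_mem_iff_lt_stairZ hJ i (j + 1) _).1 h) (lt_irrefl _)
  rw [mem_exps_sw] at h1 h2
  have h3 := hI.2 _ h2 0 2 (by decide) (by simp)
  rw [e3_exch02] at h3
  exact h1 h3

lemma pattern_sw (α : Fin 3 → ℤ) :
    (∀ i, α (sw i) < 0 ↔ i ∈ ({0, 2} : Set (Fin 3))) ↔
      (∀ i, α i < 0 ↔ i ∈ ({0, 1} : Set (Fin 3))) := by
  rw [forall_fin3, forall_fin3, sw_zero, sw_one, sw_two]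
  simp only [Set.mem_insert_iff, Set.mem_singleton_iff]
  have h1 : ((1 : Fin 3) = 0) = False := by decide
  have h2 : ((1 : Fin 3) = 2) = False := by decide
  have h3 : ((2 : Fin 3) = 0) = False := by decide
  have h4 : ((2 : Fin 3) = 1) = False := by decide
  simp only [h1, h2, h3, h4]
  tauto

lemma finrank_sigPiece_02_le (hI : IsMonomial I) [Module.Finite k (MvPolynomial (Fin 3) k ⧸ I)] :
    Module.finrank k ↥(sigPiece I ({0, 2} : Set (Fin 3))) ≤
      Module.finrank k ↥(sigPiece (permI sw I) ({0, 1} : Set (Fin 3))) := by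
  unfold sigPiece
  refine le_trans (finrank_iSup_perm_le sw I hI
    (fun α => ∀ i, α i < 0 ↔ i ∈ ({0, 2} : Set (Fin 3)))) (le_of_eq ?_)
  exact congrArg (fun N : Submodule k (Tgt (permI sw I)) => Module.finrank k ↥N)
    (iSup_subtype_congr (fun α => tPiece (permI sw I) α) (fun α => pattern_sw α))

end swap

end Groth.Agent.Lib.Helper6.Hilbpn
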