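import Mathlib
import Groth.Prelude.Def_W4c1hilbpnTgt
import Groth.Agent.Lib.Helper6.Hilbpn.SSIdeal

/-! The bounds `dim T_{xy}(I), dim T_{xz}(I) ≤ C(r+2, 4)` for strongly stable ideals of colength
`C(r+2, 3)`, with equality only for `I = m^r`. -/

open scoped Classical
set_option linter.unusedSectionVars false
set_option autoImplicit false
noncomputable section

namespace Groth.Agent.Lib.Helper6.Hilbpn
open MvPolynomial W4c1hilbpn

variable {k : Type*} [Field k]
variable {I : Ideal (MvPolynomial (Fin 3) k)} (hI : IsStronglyStable I)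
variable [Module.Finite k (MvPolynomial (Fin 3) k ⧸ I)]

include hI in
theorem ss_bounds (r : ℕ)
    (hd : Module.finrank k (MvPolynomial (Fin 3) k ⧸ I) = Nat.choose (r + 2) 3) :
    (Module.finrank k ↥(sigPiece I ({0, 1} : Set (Fin 3))) ≤ Nat.choose (r + 2) 4 ∧
      (Module.finrank k ↥(sigPiece I ({0, 1} : Set (Fin 3))) = Nat.choose (r + 2) 4 →
        I = mpow (Fin 3) k r)) ∧
    (Module.finrank k ↥(sigPiece I ({0, 2} : Set (Fin 3))) ≤ Nat.choose (r + 2) 4 ∧
      (Module.finrank k ↥(sigPiece I ({0, 2} : Set (Fin 3))) = Nat.choose (r + 2) 4 →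
        I = mpow (Fin 3) k r)) := by
  obtain ⟨B0, hB0⟩ := exists_bound hI.1 (0 : Fin 3)
  obtain ⟨B1, hB1⟩ := exists_bound hI.1 (1 : Fin 3)
  obtain ⟨B2, hB2⟩ := exists_bound hI.1 (2 : Fin 3)
  haveI := finite_quot_permI sw I
  have hJ := isMonomial_permI (e := sw) hI.1
  have hJ0 : ∀ w : Fin 3 →₀ ℕ, w ∉ exps (permI sw I) → w 0 < B0 := by
    intro w hw
    have h := hB0 (w.mapDomain sw.symm) (fun h => hw (mem_exps_permI.2 h))
    rw [mapDomain_sw_apply, sw_zero] at h
    exact h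
  have hJ1 : ∀ w : Fin 3 →₀ ℕ, w ∉ exps (permI sw I) → w 1 < B2 := by
    intro w hw
    have h := hB2 (w.mapDomain sw.symm) (fun h => hw (mem_exps_permI.2 h))
    rw [mapDomain_sw_apply, sw_two] at h
    exact h
  set M := max B0 r with hMdef
  have hM0 : ∀ w : Fin 3 →₀ ℕ, w ∉ exps I → w 0 < M := fun w hw =>
    lt_of_lt_of_le (hB0 w hw) (le_max_left _ _)
  have hMJ0 : ∀ w : Fin 3 →₀ ℕ, w ∉ exps (permI sw I) → w 0 < M := fun w hw =>
    lt_of_lt_of_le (hJ0 w hw) (le_max_left _ _)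
  have hzI : ∀ i j, M ≤ i ∨ B1 ≤ j → stairZ I i j = 0 := fun i j h =>
    stairZ_eq_zero_of_bound hI.1 hM0 hB1 i j h
  have hzJ : ∀ i j, M ≤ i ∨ B2 ≤ j → stairZ (permI sw I) i j = 0 := fun i j h =>
    stairZ_eq_zero_of_bound hJ hMJ0 hJ1 i j h
  set a : ℕ → ℕ := fun i => Module.finrank k (MvPolynomial (Fin 2) k ⧸ sliceX I i) with ha
  set z : ℕ → ℕ := fun i => stairZ I i 0 with hz
  have hasum : ∀ i, a i = ∑ b ∈ Finset.range B1, stairZ I i b := fun i =>
    finrank_sliceX hI i B1 (fun b hb => hzI i b (Or.inr hb))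
  have haAA : ∀ i, a i = AA I i := fun i => by
    rw [hasum, sum_stairZ_eq_AA hI.1 i B1 (fun b hb => hzI i b (Or.inr hb))]
  have hAAJ : ∀ i, ∑ b ∈ Finset.range B2, stairZ (permI sw I) i b = a i := fun i => by
    rw [sum_stairZ_eq_AA hJ i B2 (fun b hb => hzJ i b (Or.inr hb)), AA_sw, haAA]
  have hsumM : ∑ i ∈ Finset.range M, a i = Nat.choose (r + 2) 3 := by
    rw [← hd, finrank_quot_eq_sum_AA hI.1 M hM0]
    exact Finset.sum_congr rfl fun i _ => haAA i
  have c1 : ∀ i, a (i + 1) + z i ≤ a i := by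
    intro i
    rw [hasum, hasum]
    have h1 : ∑ b ∈ Finset.range B1, stairZ I (i + 1) b ≤ ∑ b ∈ Finset.range B1, stairZ I i (b + 1) :=
      Finset.sum_le_sum fun b _ => stairZ_succ_le hI i b
    have h2 : ∑ b ∈ Finset.range (B1 + 1), stairZ I i b =
        ∑ b ∈ Finset.range B1, stairZ I i (b + 1) + stairZ I i 0 := Finset.sum_range_succ' _ _
    have h3 : ∑ b ∈ Finset.range (B1 + 1), stairZ I i b =
        ∑ b ∈ Finset.range B1, stairZ I i b + stairZ I i B1 := Finset.sum_range_succ _ _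
    rw [hzI i B1 (Or.inr le_rfl), add_zero] at h3
    show _ + stairZ I i 0 ≤ _
    omega
  have c2 : ∀ i, a i ≤ (z i + 1).choose 2 := by
    intro i
    rw [hasum]
    refine le_trans (Finset.sum_le_sum fun b _ => stairZ_le_tsub hI i b) ?_
    exact SliceNum.sum_tsub_le B1 (z i)
  have h0 : ∑ i ∈ Finset.Ico 0 M, a i ≤ (r + 2).choose 3 := by
    rw [← Finset.range_eq_Ico, hsumM]
  have T : ∀ j, j ≤ r → ∑ i ∈ Finset.Ico j M, a i ≤ (r - j + 2).choose 3 :=
    SliceNum.tail_bound a z c1 c2 r M h0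
  obtain ⟨hW, hWeq⟩ := SSNum.weighted_le a r M (le_max_right _ _) T
  -- the equality case
  have hEq : ∑ i ∈ Finset.range M, i * a i = (r + 2).choose 4 → I = mpow (Fin 3) k r := by
    intro heq
    have hT := hWeq heq
    have hTr := T r le_rfl
    rw [show r - r + 2 = 2 by omega, show Nat.choose 2 3 = 0 by decide] at hTr
    have htail : ∑ i ∈ Finset.Ico r M, a i = 0 := Nat.le_zero.1 hTr
    refine (slice_inequality hI r (le_of_eq hd)).2 fun j hj => ?_
    have hchoose : ∑ i ∈ Finset.Ico j r, Nat.choose (r - i + 1) 2 = (r - j + 2).choose 3 := by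
      have := SliceNum.sum_Ico_choose (r - j) j
      rw [show j + (r - j) = r by omega] at this
      exact this
    rw [hchoose]
    have hsplit : ∑ i ∈ Finset.Ico j M, a i =
        ∑ i ∈ Finset.Ico j r, a i + ∑ i ∈ Finset.Ico r M, a i :=
      (Finset.sum_Ico_consecutive a hj.le (le_max_right _ _)).symm
    rw [htail, add_zero] at hsplit
    show ∑ i ∈ Finset.Ico j r, a i = _
    rw [← hsplit]
    rcases Nat.eq_zero_or_pos j with hj0 | hjpos
    · subst hj0
      rw [← Finset.range_eq_Ico, hsumM, Nat.sub_zero]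
    · exact hT j hjpos hj.le
  -- the two bounds
  have hb01 : Module.finrank k ↥(sigPiece I ({0, 1} : Set (Fin 3))) ≤
      ∑ i ∈ Finset.range M, i * a i := by
    refine le_trans (finrank_sigPiece_01_le hI.1 (stairZ_succ_le hI) M B1 hzI) (le_of_eq ?_)
    exact Finset.sum_congr rfl fun i _ => by rw [hasum]
  have hb02 : Module.finrank k ↥(sigPiece I ({0, 2} : Set (Fin 3))) ≤
      ∑ i ∈ Finset.range M, i * a i := by
    refine le_trans (finrank_sigPiece_02_le hI.1) ?_
    refine le_trans (finrank_sigPiece_01_le hJ (stairZ_sw_succ_le hI) M B2 hzJ) (le_of_eq ?_)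
    exact Finset.sum_congr rfl fun i _ => by rw [hAAJ]
  refine ⟨⟨le_trans hb01 hW, fun h => hEq ?_⟩, ⟨le_trans hb02 hW, fun h => hEq ?_⟩⟩
  · omega
  · omega

end Groth.Agent.Lib.Helper6.Hilbpn
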